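import Groth.Agent.AlgSt.K739.Rep
import Groth.Agent.AlgSt.K735.Fp
import Groth.Prelude.Def_AlgSt3

/-!
# Categories fibred in sets over a category fibred in groupoids (helper748)

* `el 𝔽`: the category over `C` of pairs (object of `𝒵`, section of the presheaf `𝔽` on the total category of `𝒵`).
* `isEquivOver_model`: base changes of `el 𝔽 ⟶ 𝒵` along `y : (Sch/B) ⟶ 𝒵` from a presheaf `H ⟶ h_B` with
  `{x ∈ H(T) | x ↦ b} ≃ 𝔽(y(b))`.
* `repByAlgSpWith_of_model`.
-/

set_option autoImplicit false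
set_option backward.isDefEq.respectTransparency false
set_option backward.isDefEq.respectTransparency.types false

universe w v₂ u₂ v u

open CategoryTheory CategoryTheory.Limits AlgebraicGeometry Opposite K735.Fib K735.Fp

namespace K748.El

section El

variable {C : Type u} [Category.{v} C] {𝒵 : BasedCategory.{v₂, u₂} C} (𝔽 : 𝒵.objᵒᵖ ⥤ Type w)

/-- The category of sections of a presheaf on the total category of `𝒵`. -/
abbrev el : BasedCategory.{v₂, max u₂ w} C where
  obj := Stk.EltObj 𝔽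
  p := Stk.EltObj.forget 𝔽 ⋙ 𝒵.p

/-- The forgetful functor. -/
def elq : el 𝔽 ⥤ᵇ 𝒵 where
  toFunctor := Stk.EltObj.forget 𝔽
  w := rfl

theorem isFibGrpd_el (h𝒵 : FibCat.IsFibGrpd 𝒵.p) : FibCat.IsFibGrpd (el 𝔽).p := by
  refine isFibGrpd_mk ?_ ?_ ?_
  · intro x V f
    obtain ⟨z, φ, e, h⟩ := exists_lift h𝒵 (x := x.base) f
    exact ⟨⟨z, 𝔽.map φ.op x.sec⟩, ⟨φ, rfl⟩, e, h⟩
  · intro x y z φ ψ g w
    obtain ⟨χ, h1, h2⟩ := exists_hom h𝒵 φ.hom ψ.hom g w
    refine ⟨⟨χ, ?_⟩, h1, Stk.EltObj.hom_ext h2⟩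
    rw [← φ.map_sec, ← ψ.map_sec, ← h2, op_comp, Functor.map_comp_apply]
  · intro x y z φ χ χ' h1 h2
    exact Stk.EltObj.hom_ext (hom_ext' h𝒵 φ.hom h1 (congrArg (fun t => t.hom) h2))

end El

section Model

variable {S : Scheme.{u}} {𝒵 : BasedCategory.{v₂, u₂} (Over S)} (𝔽 : 𝒵.objᵒᵖ ⥤ Type w) {B : Over S}
  (y : FibCat.overCat B ⥤ᵇ 𝒵) {H : AlgSp.PSp S} (h : H ⟶ (AlgSp.pyon S).obj B)

/-- A presheaf model of the base change. -/
structure Model where
  κ : ∀ (β : (FibCat.overCat B).obj) (x : H.obj (op β.left)), (h.app _ x).down = β.hom → 𝔽.obj (op (y.obj β))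
  inj : ∀ (β : (FibCat.overCat B).obj) (x x' : H.obj (op β.left)) (hx : (h.app _ x).down = β.hom)
    (hx' : (h.app _ x').down = β.hom), κ β x hx = κ β x' hx' → x = x'
  surj : ∀ (β : (FibCat.overCat B).obj) (s : 𝔽.obj (op (y.obj β))), ∃ x hx, κ β x hx = s
  nat : ∀ (β β' : (FibCat.overCat B).obj) (t : β' ⟶ β) (x : H.obj (op β.left)) (hx : (h.app _ x).down = β.hom)
    (hx' : (h.app _ (H.map t.left.op x)).down = β'.hom), 𝔽.map (y.map t).op (κ β x hx) = κ β' (H.map t.left.op x) hx'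

variable {𝔽 y h} (M : Model 𝔽 y h)

theorem down_map (h : H ⟶ (AlgSp.pyon S).obj B) {T T' : Over S} (t : T' ⟶ T) (x : H.obj (op T)) :
    (h.app (op T') (H.map t.op x)).down = t ≫ (h.app (op T) x).down := by
  rw [NatTrans.naturality_apply]
  rfl

/-- The object of the slice attached to a section. -/
def bOf (h : H ⟶ (AlgSp.pyon S).obj B) (a : (Stk.ofPsh H).obj) : (FibCat.overCat B).obj :=
  Over.mk (h.app _ a.sec).down

/-- The morphism of the slice. -/
def bHom (h : H ⟶ (AlgSp.pyon S).obj B) {a a' : (Stk.ofPsh H).obj} (t : a' ⟶ a) : bOf h a' ⟶ bOf h a :=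
  Over.homMk t.hom (by
    change t.hom ≫ (h.app _ a.sec).down = (h.app _ a'.sec).down
    rw [← down_map, t.map_sec])

/-- The functor from the category of the model. -/
def toFp : Stk.ofPsh H ⥤ᵇ FibCat.fp y (elq 𝔽) where
  toFunctor :=
    { obj := fun a => mkFp y (elq 𝔽) (bOf h a) (⟨y.obj (bOf h a), M.κ (bOf h a) a.sec rfl⟩ : Stk.EltObj 𝔽)
        (Iso.refl (y.obj (bOf h a))) (vert_id _)
      map := fun {a' a} t => homFp (bHom h t) (⟨y.map (bHom h t), by
          have h1 : H.map (bHom h t).left.op a.sec = a'.sec := t.map_sec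
          refine (M.nat (bOf h a) (bOf h a') (bHom h t) a.sec rfl (by rw [h1]; rfl)).trans ?_
          congr 1⟩ : (⟨y.obj (bOf h a'), M.κ (bOf h a') a'.sec rfl⟩ : Stk.EltObj 𝔽) ⟶ _) (by
          change y.map _ ≫ 𝟙 _ = 𝟙 _ ≫ y.map _
          rw [Category.comp_id, Category.id_comp])
      map_id := fun a => by
        refine fp_hom_ext ?_ (Stk.EltObj.hom_ext ?_)
        · exact Over.OverMorphism.ext rfl
        · change y.map (bHom h (𝟙 a)) = 𝟙 _
          rw [← y.map_id]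
          rfl
      map_comp := fun f g => by
        refine fp_hom_ext ?_ (Stk.EltObj.hom_ext ?_)
        · exact Over.OverMorphism.ext rfl
        · change y.map (bHom h (f ≫ g)) = y.map (bHom h f) ≫ y.map (bHom h g)
          rw [← y.map_comp]
          rfl }
  w := rfl

theorem isEquivOver_toFp : FibCat.IsEquivOver (toFp M) := by
  refine isEquivOver_of ?_ ?_ ?_
  · intro a b φ ψ e
    apply Stk.EltObj.hom_ext
    exact congrArg (fun t => t.hom.fst.left) e
  · intro a b φ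
    have h1 : y.map φ.hom.fst = φ.hom.snd.hom := by
      have := fp_w φ
      change y.map φ.hom.fst ≫ 𝟙 _ = 𝟙 _ ≫ φ.hom.snd.hom at this
      rwa [Category.comp_id, Category.id_comp] at this
    have h2 : 𝔽.map φ.hom.snd.hom.op (M.κ (bOf h b) b.sec rfl) = M.κ (bOf h a) a.sec rfl := φ.hom.snd.map_sec
    have h3 : H.map φ.hom.fst.left.op b.sec = a.sec := by
      have hx' : (h.app _ (H.map φ.hom.fst.left.op b.sec)).down = (bOf h a).hom := by
        rw [down_map]
        exact Over.w φ.hom.fst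
      refine M.inj (bOf h a) _ _ hx' rfl ?_
      rw [← h2, ← h1]
      exact (M.nat (bOf h b) (bOf h a) φ.hom.fst b.sec rfl hx').symm
    refine ⟨⟨φ.hom.fst.left, h3⟩, fp_hom_ext ?_ (Stk.EltObj.hom_ext ?_)⟩
    · exact Over.OverMorphism.ext rfl
    · change y.map _ = _
      rw [← h1]
      rfl
  · intro z
    have : IsIso z.obj.iso.hom := inferInstance
    let ζ : Stk.EltObj 𝔽 := z.obj.snd
    let i : y.obj z.obj.fst ≅ ζ.base := z.obj.iso
    obtain ⟨x, hx, hκ⟩ := M.surj z.obj.fst (𝔽.map i.hom.op ζ.sec)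
    -- the object of the model
    let a : (Stk.ofPsh H).obj := ⟨z.obj.fst.left, x⟩
    have ha : bOf h a = z.obj.fst := by
      change Over.mk (h.app _ x).down = z.obj.fst
      rw [hx]
      rfl
    have hsec : ∀ (β : (FibCat.overCat B).obj) (e : bOf h a = β) (x' : H.obj (op β.left)) (_ : HEq a.sec x')
        (hx' : (h.app _ x').down = β.hom), 𝔽.map (eqToHom (congrArg (fun t => y.obj t) e)).op (M.κ β x' hx') =
          M.κ (bOf h a) a.sec rfl := by
      rintro β rfl x' hx'' hx'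
      obtain rfl := eq_of_heq hx''
      simp
    let j : (⟨y.obj (bOf h a), M.κ (bOf h a) a.sec rfl⟩ : Stk.EltObj 𝔽) ≅ ζ :=
      { hom := ⟨eqToHom (congrArg (fun t => y.obj t) ha) ≫ i.hom, by
          rw [op_comp, Functor.map_comp_apply, ← hκ]
          exact hsec z.obj.fst ha x (HEq.rfl) hx⟩
        inv := ⟨i.inv ≫ eqToHom (congrArg (fun t => y.obj t) ha).symm, by
          rw [← hsec z.obj.fst ha x (HEq.rfl) hx, hκ, ← Functor.map_comp_apply, ← Functor.map_comp_apply,
            ← op_comp, ← op_comp]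
          simp⟩
        hom_inv_id := Stk.EltObj.hom_ext (by
          change (eqToHom _ ≫ i.hom) ≫ i.inv ≫ eqToHom _ = 𝟙 _
          simp)
        inv_hom_id := Stk.EltObj.hom_ext (by
          change (i.inv ≫ eqToHom _) ≫ eqToHom _ ≫ i.hom = 𝟙 _
          simp) }
    refine ⟨a, isoFp (eqToIso ha) j ?_, ?_⟩
    · change y.map (eqToHom ha) ≫ i.hom = 𝟙 _ ≫ eqToHom _ ≫ i.hom
      rw [Category.id_comp, eqToHom_map]
    · rw [vert_fp_iff]
      exact vert_eqToHom ha

/-- The structure map of the model. -/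
theorem prMap_toFp : K739.Rep.prMap (BasedFunctor.comp (toFp M) (FibCat.fpFst _ _)) = h := by
  ext T x
  change (⟨𝟙 T.unop ≫ (h.app T x).down⟩ : ULift _) = h.app T x
  rw [Category.id_comp]

end Model

/-- `el 𝔽 ⟶ 𝒵` is representable by algebraic spaces with `P` as soon as all its base changes to schemes have a model
with `P`. -/
theorem repByAlgSpWith_of_model {S : Scheme.{u}} {𝒵 : BasedCategory.{v₂, u₂} (Over S)} {𝔽 : 𝒵.objᵒᵖ ⥤ Type w}
    {P : MorphismProperty (AlgSp.Sp S)}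
    (hM : ∀ (B : Over S) (y : FibCat.overCat B ⥤ᵇ 𝒵), ∃ (H : AlgSp.Sp S) (h : H ⟶ (AlgSp.yon S).obj B)
      (_ : Model 𝔽 y (H := H.obj) h.hom), AlgSp.IsAlgSpace H ∧ P h) :
    AlgSt.RepByAlgSpWith P (elq 𝔽) := by
  intro B y
  obtain ⟨H, h, M, hH, hP⟩ := hM B y
  refine ⟨⟨H, hH⟩, toFp M, isEquivOver_toFp M, ?_⟩
  have h1 : AlgSt.spMapOfOver (BasedFunctor.comp (toFp M) (FibCat.fpFst y (elq 𝔽))) = h := by
    apply ObjectProperty.hom_ext
    rw [K739.Rep.spMapOfOver_hom (F := H)]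
    exact prMap_toFp M
  exact (congrArg (fun t : H ⟶ (AlgSp.yon S).obj B => P t) h1).mpr hP

end K748.El
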