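import Groth.Agent.AlgSt.K748.QAffDiag2
import Groth.Agent.AlgSt.K738.LftDiag
import Groth.Prelude.Def_StGerb2

/-!
# Stabilizer group schemes and properties of the diagonal (helper748)

`autIso`: the presheaf of points of the stabilizer group scheme of `x : (Sch/U) ⟶ 𝒳` is the Isom presheaf of `x, x`.
-/

set_option autoImplicit false
set_option backward.isDefEq.respectTransparency false
set_option backward.isDefEq.respectTransparency.types false

universe w v₂ u₂ v u

open CategoryTheory CategoryTheory.Limits AlgebraicGeometry Opposite K735.Fib K735.Fp K739.Isom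

namespace K748.El

variable {S : Scheme.{u}}

theorem repPsh_of_iso {P : MorphismProperty (AlgSp.Sp S)} [P.RespectsIso] {B V : Over S} {G : AlgSp.PSp S}
    {q : G ⟶ (AlgSp.pyon S).obj B} (v : V ⟶ B) (e : (AlgSp.pyon S).obj V ≅ G) (he : e.hom ≫ q = (AlgSp.pyon S).map v)
    (h : K739.Rep.RepPsh P q) : P ((AlgSp.yon S).map v) := by
  have h1 : K739.Rep.RepPsh P ((AlgSp.pyon S).map v) := h.of_iso e.symm (by
    rw [Iso.symm_hom, ← he, Iso.inv_hom_id_assoc])
  exact ((K739.Rep.repPsh_hom_iff (K739.Rep.isoInv_of_respectsIso P) (G := (AlgSp.yon S).obj V)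
    ((AlgSp.yon S).map v)).1 h1).2

variable {𝒳 : BasedCategory.{u, w} (Over S)} {U : Over S} {x : FibCat.overCat U ⥤ᵇ 𝒳}
  {G : Over U.left} [GrpObj G] (R : Gerb.AutRep x (Gerb.ptsGrp U G)) (h𝒳 : FibCat.IsFibGrpd 𝒳.p)
  (φ : BasedFunctor.comp x (FibCat.toSelf 𝒳) ≅ BasedFunctor.comp x (FibCat.toSelf 𝒳))

/-- The stabilizer as a scheme over `S`. -/
abbrev autOver (U : Over S) (G : Over U.left) : Over S := Over.mk (G.hom ≫ U.hom)

/-- Its structure morphism. -/
abbrev autMor (U : Over S) (G : Over U.left) : autOver U G ⟶ U := Over.homMk G.hom rfl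

/-- The point of `G` of a morphism. -/
noncomputable def autPt {T : Over S} (t : T ⟶ autOver U G) (u : T ⟶ U) (h : t ≫ autMor U G = u) :
    (Gerb.ptsGrp U G).obj (op (pt u)) := (Over.homMk t.left (by
      rw [← h]
      rfl) : (Over.iteratedSliceForward U).obj (pt u) ⟶ G)

/-- The section of Isom attached to a point of `G`. -/
noncomputable def autSec {T : Over S} (t : T ⟶ autOver U G) (u : T ⟶ U) (h : t ≫ autMor U G = u) :
    Sec (FibCat.toSelf 𝒳) x x φ T where
  u := u
  ψ := (R.iso _ (autPt t u h)).hom.1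
  lift := by
    have h : Vert 𝒳.p (R.iso _ (autPt t u h)).hom.1 := (R.iso _ (autPt t u h)).hom.2
    exact h.isHomLift (x.w_obj _)
  comp := by
    have h : Vert 𝒳.p (R.iso _ (autPt t u h)).hom.1 := (R.iso _ (autPt t u h)).hom.2
    have h1 : Vert (FibCat.selfOver (Over S)).p ((FibCat.toSelf 𝒳).map (R.iso _ (autPt t u _)).hom.1) := h.map _
    have h2 : Vert (FibCat.selfOver (Over S)).p (φ.hom.toNatTrans.app (pt u)) := vert_app φ.hom _
    exact h1.map_eq.trans h2.map_eq.symm

theorem autSec_congr {T : Over S} (t : T ⟶ autOver U G) (u : T ⟶ U) (h : t ≫ autMor U G = u) :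
    autSec R φ t _ rfl = autSec R φ t u h := by
  subst h
  rfl

theorem autSec_injective {T : Over S} {t t' : T ⟶ autOver U G}
    (h : autSec R φ t _ rfl = autSec R φ t' _ rfl) : t = t' := by
  have h1 : t ≫ autMor U G = t' ≫ autMor U G := congrArg Sec.u h
  rw [autSec_congr R φ t' _ h1.symm] at h
  have h2 : (R.iso _ (autPt t _ rfl)).hom.1 = (R.iso _ (autPt t' _ h1.symm)).hom.1 := by
    unfold autSec at h
    injection h
  have h3 : R.iso _ (autPt t _ rfl) = R.iso _ (autPt t' _ h1.symm) := by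
    apply Aut.ext
    apply Functor.Fiber.hom_ext
    exact h2
  have h4 := (R.iso _).injective h3
  ext : 1
  exact congrArg (fun z : (Over.iteratedSliceForward U).obj (pt (t ≫ autMor U G)) ⟶ G => z.left) h4

include h𝒳 in
theorem autSec_surjective {T : Over S} (s : Sec (FibCat.toSelf 𝒳) x x φ T) : ∃ t, autSec R φ t _ rfl = s := by
  obtain ⟨u, ψ, hl, hc⟩ := s
  have hv : Vert 𝒳.p ψ := vert_of_isHomLift hl
  have := hv.isIso h𝒳
  let β : Gerb.AutO (x.obj (pt u)) :=
    { hom := ⟨ψ, hv⟩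
      inv := ⟨inv ψ, hv.inv⟩
      hom_inv_id := by
        apply Functor.Fiber.hom_ext
        exact IsIso.hom_inv_id ψ
      inv_hom_id := by
        apply Functor.Fiber.hom_ext
        exact IsIso.inv_hom_id ψ }
  let a : (Over.iteratedSliceForward U).obj (pt u) ⟶ G := (R.iso (pt u)).symm β
  have ha : a.left ≫ G.hom = u.left := Over.w a
  let t : T ⟶ autOver U G := Over.homMk a.left (by
    change a.left ≫ G.hom ≫ U.hom = T.hom
    rw [← Category.assoc, ha, Over.w])
  have ht : t ≫ autMor U G = u := by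
    ext : 1
    exact ha
  refine ⟨t, ?_⟩
  rw [autSec_congr R φ t u ht]
  refine K739.Diag.sec_ext ?_
  have h1 : autPt t u ht = (R.iso (pt u)).symm β := by
    change (Over.homMk t.left _ : (Over.iteratedSliceForward U).obj (pt u) ⟶ G) = a
    ext : 1
    rfl
  rw [h1, MulEquiv.apply_symm_apply]

theorem autSec_isRes {T T' : Over S} (r : T' ⟶ T) (t : T ⟶ autOver U G) :
    IsRes r (autSec R φ t _ rfl) (autSec R φ (r ≫ t) _ rfl) := by
  have h1 : r ≫ t ≫ autMor U G = (r ≫ t) ≫ autMor U G := (Category.assoc _ _ _).symm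
  refine ⟨h1, ?_⟩
  have n := R.natural (arr r h1) (autPt t _ rfl)
  have h2 : (Gerb.ptsGrp U G).map (arr r h1).op (autPt t _ rfl) = autPt (r ≫ t) _ rfl := by
    change (Over.iteratedSliceForward U).map (arr r h1) ≫ (autPt t _ rfl :
      (Over.iteratedSliceForward U).obj (pt (t ≫ autMor U G)) ⟶ G) = _
    ext : 1
    rfl
  rw [h2] at n
  exact n.symm

/-- The stabilizer group scheme is the Isom presheaf. -/
noncomputable def autIso : (AlgSp.pyon S).obj (autOver U G) ≅
    psh (FibCat.toSelf 𝒳) x x φ h𝒳 isFibGrpd_selfOver :=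
  NatIso.ofComponents (fun T => (Equiv.ofBijective (fun t : ((AlgSp.pyon S).obj (autOver U G)).obj T =>
      autSec R φ t.down _ rfl) ⟨fun t t' h => congrArg ULift.up (autSec_injective R φ h), fun s => by
        obtain ⟨t, ht⟩ := autSec_surjective R h𝒳 φ s
        exact ⟨⟨t⟩, ht⟩⟩).toIso) (fun {T T'} t => by
    ext s
    exact ((map_eq_iff h𝒳 isFibGrpd_selfOver t.unop _ _).2 (autSec_isRes R φ t.unop s.down)).symm)

theorem autIso_toBase : (autIso R h𝒳 φ).hom ≫ toBase (FibCat.toSelf 𝒳) x x φ h𝒳 isFibGrpd_selfOver =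
    (AlgSp.pyon S).map (autMor U G) := by
  ext T s
  rfl

include R in
/-- The stabilizer group scheme has the (scheme) properties of the diagonal. -/
theorem prop_aut (h𝒳 : FibCat.IsFibGrpd 𝒳.p) {P : MorphismProperty (AlgSp.Sp S)} [P.RespectsIso]
    (hΔ : AlgSt.RepByAlgSpWith P (FibCat.diag (FibCat.toSelf 𝒳))) : P ((AlgSp.yon S).map (autMor U G)) :=
  repPsh_of_iso (autMor U G) (autIso R h𝒳 (Iso.refl _)) (autIso_toBase R h𝒳 _)
    ((K739.Diag.repByAlgSpWith_diag_iff _ _ h𝒳 isFibGrpd_selfOver).1 hΔ _ _ _ _)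

theorem isQuasiAffineMor_eq : (AlgSp.IsQuasiAffineMor : MorphismProperty (AlgSp.Sp S)) =
    AlgSp.RepWith Groth.Agent.Ega2.QuasiAffine.QAff := by
  ext F G f
  exact qaff_iff f

end K748.El
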