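import Groth.Agent.AlgSt.K748.El

/-!
# The explicit presheaf of `(Sch/B) ×_𝒵 (Sch/U)` (helper748)

* `FSec y p T`: triples `(b : T ⟶ B, u : T ⟶ U, ψ : p(u) ≅ y(b))`.
* `fpsh y p`, `toFpF : ofPsh (fpsh y p) ⥤ᵇ fp y p`, `isEquivOver_toFpF`.
* `exists_sheaf`: `fpsh` is an algebraic space with `P` when `p` is representable with `P`.
-/

set_option autoImplicit false
set_option backward.isDefEq.respectTransparency false
set_option backward.isDefEq.respectTransparency.types false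

universe w v₂ u₂ v u

open CategoryTheory CategoryTheory.Limits AlgebraicGeometry Opposite K735.Fib K735.Fp

namespace K748.El

variable {S : Scheme.{u}} {𝒵 : BasedCategory.{u, w} (Over S)} {B U : Over S}
  (y : FibCat.overCat B ⥤ᵇ 𝒵) (p : FibCat.overCat U ⥤ᵇ 𝒵)

/-- An object of the slice. -/
abbrev ob {B T : Over S} (b : T ⟶ B) : (FibCat.overCat B).obj := Over.mk b

/-- A morphism of the slice. -/
abbrev ar {B T T' : Over S} {b : T ⟶ B} {b' : T' ⟶ B} (t : T' ⟶ T) (h : t ≫ b = b') : ob b' ⟶ ob b := Over.homMk t h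

theorem ar_comp {B T T' T'' : Over S} {b : T ⟶ B} {b' : T' ⟶ B} {b'' : T'' ⟶ B} (t : T' ⟶ T) (h : t ≫ b = b')
    (t' : T'' ⟶ T') (h' : t' ≫ b' = b'') (h'' : (t' ≫ t) ≫ b = b'') : ar t' h' ≫ ar t h = ar (t' ≫ t) h'' :=
  Over.OverMorphism.ext rfl

theorem ar_id {B T : Over S} {b : T ⟶ B} (h : 𝟙 T ≫ b = b) : ar (𝟙 T) h = 𝟙 (ob b) := Over.OverMorphism.ext rfl

/-- The projection of the image of an arrow. -/
theorem p_map_ar {T T' : Over S} {b : T ⟶ B} {b' : T' ⟶ B} (t : T' ⟶ T) (h : t ≫ b = b') :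
    𝒵.p.map (y.map (ar t h)) = eqToHom (y.w_obj (ob b')) ≫ t ≫ eqToHom (y.w_obj (ob b)).symm := map_map y (ar t h)

/-- Sections. -/
structure FSec (T : Over S) : Type (u + 1) where
  b : T ⟶ B
  u : T ⟶ U
  ψ : p.obj (ob u) ⟶ y.obj (ob b)
  hψ : Vert 𝒵.p ψ

variable {y p}

/-- Restriction of sections. -/
def FSec.IsRes {T T' : Over S} (t : T' ⟶ T) (s : FSec y p T) (s' : FSec y p T') : Prop :=
  ∃ (hb : t ≫ s.b = s'.b) (hu : t ≫ s.u = s'.u), p.map (ar t hu) ≫ s.ψ = s'.ψ ≫ y.map (ar t hb)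

theorem FSec.IsRes.id {T : Over S} (s : FSec y p T) : FSec.IsRes (𝟙 T) s s := by
  refine ⟨Category.id_comp _, Category.id_comp _, ?_⟩
  rw [ar_id, ar_id, y.map_id, p.map_id, Category.id_comp, Category.comp_id]

theorem FSec.IsRes.comp {T T' T'' : Over S} {t : T' ⟶ T} {t' : T'' ⟶ T'} {s : FSec y p T} {s' : FSec y p T'}
    {s'' : FSec y p T''} (h : FSec.IsRes t s s') (h' : FSec.IsRes t' s' s'') : FSec.IsRes (t' ≫ t) s s'' := by
  obtain ⟨h1, h2, h3⟩ := h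
  obtain ⟨h4, h5, h6⟩ := h'
  have h7 : (t' ≫ t) ≫ s.b = s''.b := by rw [Category.assoc, h1, h4]
  have h8 : (t' ≫ t) ≫ s.u = s''.u := by rw [Category.assoc, h2, h5]
  refine ⟨h7, h8, ?_⟩
  rw [← ar_comp t h1 t' h4 h7, ← ar_comp t h2 t' h5 h8, p.map_comp, y.map_comp, Category.assoc, h3, ← Category.assoc,
    h6, Category.assoc]

theorem FSec.IsRes.unique (h𝒵 : FibCat.IsFibGrpd 𝒵.p) {T T' : Over S} {t : T' ⟶ T} {s : FSec y p T}
    {s' s'' : FSec y p T'} (h : FSec.IsRes t s s') (h' : FSec.IsRes t s s'') : s' = s'' := by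
  obtain ⟨h1, h2, h3⟩ := h
  obtain ⟨h4, h5, h6⟩ := h'
  obtain ⟨b, u, ψ, hψ⟩ := s'
  obtain ⟨b', u', ψ', hψ'⟩ := s''
  dsimp only at h1 h2 h3 h4 h5 h6
  subst h1 h2 h4 h5
  have h7 : ψ = ψ' := by
    apply hom_ext' h𝒵 (y.map (ar t rfl))
    · rw [hψ.map_eq, hψ'.map_eq]
    · exact h3.symm.trans h6
  subst h7
  rfl

theorem FSec.exists_isRes (h𝒵 : FibCat.IsFibGrpd 𝒵.p) {T T' : Over S} (t : T' ⟶ T) (s : FSec y p T) :
    ∃ s' : FSec y p T', FSec.IsRes t s s' := by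
  obtain ⟨ψ', h1, h2⟩ := exists_hom h𝒵 (y.map (ar t rfl : ob (t ≫ s.b) ⟶ ob s.b)) (p.map (ar t rfl : ob (t ≫ s.u) ⟶ ob s.u) ≫ s.ψ)
    (eqToHom ((p.w_obj (ob (t ≫ s.u))).trans (y.w_obj (ob (t ≫ s.b))).symm)) (by
      rw [Functor.map_comp, p_map_ar, p_map_ar, s.hψ.map_eq]
      simp)
  exact ⟨⟨t ≫ s.b, t ≫ s.u, ψ', vert_of_map_eq _ h1⟩, rfl, rfl, h2.symm⟩

variable (y p) in
/-- The presheaf. -/
noncomputable def fpsh (h𝒵 : FibCat.IsFibGrpd 𝒵.p) : AlgSp.PSp S where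
  obj T := FSec y p T.unop
  map {T T'} t := ↾fun s => (FSec.exists_isRes h𝒵 t.unop s).choose
  map_id T := by
    ext s
    exact ((FSec.exists_isRes h𝒵 (𝟙 T.unop) s).choose_spec).unique h𝒵 (FSec.IsRes.id s)
  map_comp {T T' T''} t t' := by
    ext s
    exact ((FSec.exists_isRes h𝒵 (t'.unop ≫ t.unop) s).choose_spec).unique h𝒵
      (((FSec.exists_isRes h𝒵 t.unop s).choose_spec).comp (FSec.exists_isRes h𝒵 t'.unop _).choose_spec)

theorem fpsh_map_eq_iff (h𝒵 : FibCat.IsFibGrpd 𝒵.p) {T T' : Over S} (t : T' ⟶ T) (s : FSec y p T) (s' : FSec y p T') :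
    (fpsh y p h𝒵).map t.op s = s' ↔ FSec.IsRes t s s' := by
  have h := (FSec.exists_isRes h𝒵 t s).choose_spec
  constructor
  · intro e
    rw [← e]
    exact h
  · intro e
    exact h.unique h𝒵 e

theorem isRes_map (h𝒵 : FibCat.IsFibGrpd 𝒵.p) {T T' : Over S} (t : T' ⟶ T) (s : FSec y p T) :
    FSec.IsRes t s ((fpsh y p h𝒵).map t.op s) := (fpsh_map_eq_iff h𝒵 t s _).1 rfl

variable (y p) in
/-- The structure map. -/
noncomputable def fb (h𝒵 : FibCat.IsFibGrpd 𝒵.p) : fpsh y p h𝒵 ⟶ (AlgSp.pyon S).obj B where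
  app T := ↾fun s => ⟨FSec.b s⟩
  naturality T T' t := by
    ext s
    exact congrArg ULift.up ((isRes_map h𝒵 t.unop s).choose.symm)

theorem fb_app (h𝒵 : FibCat.IsFibGrpd 𝒵.p) (T : (Over S)ᵒᵖ) (s : FSec y p T.unop) :
    (fb y p h𝒵).app T s = ⟨s.b⟩ := rfl

variable (y p) in
/-- The functor to the 2-fibre product. -/
noncomputable def toFpF (h𝒵 : FibCat.IsFibGrpd 𝒵.p) : Stk.ofPsh (fpsh y p h𝒵) ⥤ᵇ FibCat.fp y p where
  toFunctor :=
    { obj := fun a =>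
        haveI := Vert.isIso h𝒵 (FSec.hψ a.sec)
        mkFp y p (ob (FSec.b a.sec)) (ob (FSec.u a.sec)) (asIso (FSec.ψ a.sec)).symm
          (Vert.iso_inv (φ := asIso (FSec.ψ a.sec)) (FSec.hψ a.sec))
      map := fun {a' a} t =>
        have ht : FSec.IsRes t.hom a.sec a'.sec := (fpsh_map_eq_iff h𝒵 t.hom a.sec a'.sec).1 t.map_sec
        homFp (ar t.hom ht.choose) (ar t.hom ht.choose_spec.choose) (by
          have := Vert.isIso h𝒵 (FSec.hψ a.sec)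
          have := Vert.isIso h𝒵 (FSec.hψ a'.sec)
          change y.map _ ≫ inv (FSec.ψ a.sec) = inv (FSec.ψ a'.sec) ≫ p.map _
          rw [IsIso.eq_inv_comp, ← Category.assoc, IsIso.comp_inv_eq]
          exact ht.choose_spec.choose_spec.symm)
      map_id := fun a => fp_hom_ext (Over.OverMorphism.ext rfl) (Over.OverMorphism.ext rfl)
      map_comp := fun f g => fp_hom_ext (Over.OverMorphism.ext rfl) (Over.OverMorphism.ext rfl) }
  w := rfl

theorem isEquivOver_toFpF (h𝒵 : FibCat.IsFibGrpd 𝒵.p) : FibCat.IsEquivOver (toFpF y p h𝒵) := by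
  refine isEquivOver_of ?_ ?_ ?_
  · intro a b φ ψ e
    apply Stk.EltObj.hom_ext
    exact congrArg (fun t => t.hom.fst.left) e
  · intro a b φ
    have hl : φ.hom.snd.left = φ.hom.fst.left := by
      have := fp_map_snd φ
      change φ.hom.snd.left = eqToHom _ ≫ φ.hom.fst.left ≫ eqToHom _ at this
      rw [this]
      erw [eqToHom_refl, eqToHom_refl, Category.comp_id, Category.id_comp]
    have h1 : φ.hom.fst.left ≫ FSec.b b.sec = FSec.b a.sec := Over.w φ.hom.fst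
    have h2 : φ.hom.fst.left ≫ FSec.u b.sec = FSec.u a.sec := by
      rw [← hl]
      exact Over.w φ.hom.snd
    have hw := fp_w φ
    have := Vert.isIso h𝒵 (FSec.hψ a.sec)
    have := Vert.isIso h𝒵 (FSec.hψ b.sec)
    change y.map φ.hom.fst ≫ inv (FSec.ψ b.sec) = inv (FSec.ψ a.sec) ≫ p.map φ.hom.snd at hw
    rw [IsIso.eq_inv_comp, ← Category.assoc, IsIso.comp_inv_eq] at hw
    have e1 : φ.hom.fst = ar φ.hom.fst.left h1 := Over.OverMorphism.ext rfl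
    have e2 : φ.hom.snd = ar φ.hom.fst.left h2 := Over.OverMorphism.ext hl
    rw [e1, e2] at hw
    refine ⟨⟨φ.hom.fst.left, (fpsh_map_eq_iff h𝒵 _ _ _).2 ⟨h1, h2, hw.symm⟩⟩, fp_hom_ext ?_ ?_⟩
    · exact Over.OverMorphism.ext rfl
    · exact Over.OverMorphism.ext hl.symm
  · intro z
    obtain ⟨⟨β, υ, i⟩, hz⟩ := z
    obtain ⟨T, ⟨⟨⟩⟩, b⟩ := β
    obtain ⟨T', ⟨⟨⟩⟩, u'⟩ := υ
    have hz' : Vert 𝒵.p i.hom := vert_of_isHomLift hz
    have hT : T = T' := by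
      have h1 := hz'.eq
      exact (y.w_obj (ob (B := B) b)).symm.trans (h1.symm.trans (p.w_obj (ob (B := U) u')))
    subst hT
    refine ⟨⟨T, ⟨b, u', i.inv, Vert.iso_inv hz'⟩⟩, isoFp (Iso.refl _) (Iso.refl _) ?_, ?_⟩
    · have := Vert.isIso h𝒵 (Vert.iso_inv hz')
      change y.map (𝟙 _) ≫ i.hom = inv i.inv ≫ p.map (𝟙 _)
      rw [y.map_id, p.map_id, Category.id_comp, Category.comp_id, IsIso.Iso.inv_inv]
    · exact (vert_fp_iff _).2 (vert_id _)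

theorem prMap_toFpF (h𝒵 : FibCat.IsFibGrpd 𝒵.p) :
    K739.Rep.prMap (BasedFunctor.comp (toFpF y p h𝒵) (FibCat.fpFst _ _)) = fb y p h𝒵 := by
  ext T x
  change (⟨𝟙 T.unop ≫ FSec.b x⟩ : ULift _) = ⟨FSec.b x⟩
  rw [Category.id_comp]

/-- `fpsh` is an algebraic space with `P` when `p` is representable with `P`. -/
theorem exists_sheaf (h𝒵 : FibCat.IsFibGrpd 𝒵.p) {P : MorphismProperty (AlgSp.Sp S)} [P.RespectsIso]
    (hp : AlgSt.RepByAlgSpWith P p) (y : FibCat.overCat B ⥤ᵇ 𝒵) :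
    ∃ h : Presheaf.IsSheaf (AlgSp.J S) (fpsh y p h𝒵), AlgSp.IsAlgSpace (⟨_, h⟩ : AlgSp.Sp S) ∧
      P (ObjectProperty.homMk (fb y p h𝒵) : (⟨_, h⟩ : AlgSp.Sp S) ⟶ (AlgSp.yon S).obj B) := by
  have h1 : K739.Rep.RepAt P (FibCat.fpFst y p) := hp B y
  rw [K739.Rep.repAt_iff_repPsh _ _ (isEquivOver_toFpF h𝒵), prMap_toFpF,
    K739.Rep.repPsh_iff (K739.Rep.isoInv_of_respectsIso P)] at h1
  exact h1

end K748.El
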