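import Groth.Agent.AlgSt.K735.SpFp
import Groth.Prelude.Def_AlgSt3

/-!
# Points of the algebraic space representing a 2-fibre product (helper748)

* `chart_inj`: `chart a ≅ chart b` implies `a = b`.
* `exists_lift`: for `e : ofSp F ≃ fp y f` a `T`-point of `𝒳` with an isomorphism to `y ∘ t` over `𝒴` gives a `T`-point of `F`.
* `iso_of_lift`: conversely.
-/

set_option autoImplicit false
set_option backward.isDefEq.respectTransparency false
set_option backward.isDefEq.respectTransparency.types false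

universe v₃ u₃ v₂ u₂ u

open CategoryTheory CategoryTheory.Limits AlgebraicGeometry Opposite K735.Fib K735.Fp K735.Rep K735.SpFp

namespace K748.Lift

variable {S : Scheme.{u}}

theorem chart_inj {F : AlgSp.Sp S} {U : Over S} {a b : (AlgSp.yon S).obj U ⟶ F} (e : chart a ≅ chart b) : a = b :=
  ofSpMap_injective (whiskerLeftIso (AlgSt.toOverCat U) e :
    BasedFunctor.comp (AlgSt.toOverCat U) (chart a) ≅ BasedFunctor.comp (AlgSt.toOverCat U) (chart b))

theorem chart_yon_map {T U : Over S} (t : T ⟶ U) :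
    BasedFunctor.comp (chart ((AlgSp.yon S).map t)) (AlgSt.toOverCat U) = AlgSt.overMap t := rfl

theorem chart_map_comp {F : AlgSp.Sp S} {T U : Over S} (t : T ⟶ U) (a : (AlgSp.yon S).obj U ⟶ F) :
    BasedFunctor.comp (AlgSt.overMap t) (chart a) = chart ((AlgSp.yon S).map t ≫ a) := rfl

theorem eq_of_chart_toOverCat {T U : Over S} {a b : (AlgSp.yon S).obj T ⟶ (AlgSp.yon S).obj U}
    (e : BasedFunctor.comp (chart a) (AlgSt.toOverCat U) ≅ BasedFunctor.comp (chart b) (AlgSt.toOverCat U)) : a = b :=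
  chart_inj (whiskerRightIso e (AlgSt.ofOverCat U) :
    BasedFunctor.comp (BasedFunctor.comp (chart a) (AlgSt.toOverCat U)) (AlgSt.ofOverCat U) ≅ _)

/-- The identity. -/
def overMapId (U : Over S) : AlgSt.overMap (𝟙 U) ≅ BasedFunctor.id (FibCat.overCat U) :=
  mkIso (fun a => Over.isoMk (Iso.refl _) (by
      change 𝟙 _ ≫ a.hom = a.hom ≫ 𝟙 U
      rw [Category.id_comp, Category.comp_id]))
    (fun {a b} φ => Over.OverMorphism.ext (by
      change φ.left ≫ 𝟙 _ = 𝟙 _ ≫ φ.left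
      rw [Category.id_comp, Category.comp_id]))
    (fun a => vert_of_map_eq rfl rfl)

/-- Composition. -/
def overMapComp {U V W : Over S} (f : U ⟶ V) (g : V ⟶ W) :
    AlgSt.overMap (f ≫ g) ≅ BasedFunctor.comp (AlgSt.overMap f) (AlgSt.overMap g) :=
  mkIso (fun a => Over.isoMk (Iso.refl _) (by
      change 𝟙 _ ≫ (a.hom ≫ f) ≫ g = a.hom ≫ f ≫ g
      rw [Category.id_comp, Category.assoc]))
    (fun {a b} φ => Over.OverMorphism.ext (by
      change φ.left ≫ 𝟙 _ = 𝟙 _ ≫ φ.left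
      rw [Category.id_comp, Category.comp_id]))
    (fun a => vert_of_map_eq rfl rfl)

variable {𝒳 : BasedCategory.{v₂, u₂} (Over S)} {𝒴 : BasedCategory.{v₃, u₃} (Over S)} {f : 𝒳 ⥤ᵇ 𝒴} {U : Over S}
  {y : FibCat.overCat U ⥤ᵇ 𝒴} {F : AlgSp.Sp S} {e : AlgSt.ofSp F ⥤ᵇ FibCat.fp y f}

/-- The universal property of the representing sheaf of a 2-fibre product, for points in schemes. -/
theorem exists_lift (he : FibCat.IsEquivOver e) {T : Over S} (t : T ⟶ U) (x : FibCat.overCat T ⥤ᵇ 𝒳)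
    (i : BasedFunctor.comp (AlgSt.overMap t) y ≅ BasedFunctor.comp x f) :
    ∃ s : (AlgSp.yon S).obj T ⟶ F, s ≫ AlgSt.spMapOfOver (BasedFunctor.comp e (FibCat.fpFst y f)) = (AlgSp.yon S).map t ∧
      Nonempty (BasedFunctor.comp (chart s) (BasedFunctor.comp e (FibCat.fpSnd y f)) ≅ x) := by
  obtain ⟨k, hk, -, ⟨β⟩⟩ := IsEquivOver.exists_inv he
  obtain ⟨j⟩ := exists_iso_chart (BasedFunctor.comp (FibCat.fpLift (AlgSt.overMap t) x i) k)
  obtain ⟨l⟩ := exists_iso_spMapOfOver (BasedFunctor.comp e (FibCat.fpFst y f))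
  refine ⟨unchart (BasedFunctor.comp (FibCat.fpLift (AlgSt.overMap t) x i) k), ?_, ⟨?_⟩⟩
  · apply eq_of_chart_toOverCat
    rw [← chart_comp]
    exact (whiskerLeftIso (chart (unchart (BasedFunctor.comp (FibCat.fpLift (AlgSt.overMap t) x i) k))) l.symm) ≪≫
      (whiskerRightIso j.symm (BasedFunctor.comp e (FibCat.fpFst y f)) :
        _ ≅ BasedFunctor.comp (BasedFunctor.comp (FibCat.fpLift (AlgSt.overMap t) x i) k) _) ≪≫
      (whiskerRightIso (whiskerLeftIso (FibCat.fpLift (AlgSt.overMap t) x i) β) (FibCat.fpFst y f) :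
        BasedFunctor.comp (BasedFunctor.comp (FibCat.fpLift (AlgSt.overMap t) x i) (BasedFunctor.comp k e)) (FibCat.fpFst y f) ≅ _)
  · exact (whiskerRightIso j.symm (BasedFunctor.comp e (FibCat.fpSnd y f)) :
        _ ≅ BasedFunctor.comp (BasedFunctor.comp (FibCat.fpLift (AlgSt.overMap t) x i) k) _) ≪≫
      (whiskerRightIso (whiskerLeftIso (FibCat.fpLift (AlgSt.overMap t) x i) β) (FibCat.fpSnd y f) :
        BasedFunctor.comp (BasedFunctor.comp (FibCat.fpLift (AlgSt.overMap t) x i) (BasedFunctor.comp k e)) (FibCat.fpSnd y f) ≅ _)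

/-- Conversely, a point of the representing sheaf gives an object of `𝒳` isomorphic to `y ∘ t` over `𝒴`. -/
theorem iso_of_lift (e : AlgSt.ofSp F ⥤ᵇ FibCat.fp y f) {T : Over S} (t : T ⟶ U) (s : (AlgSp.yon S).obj T ⟶ F)
    (hs : s ≫ AlgSt.spMapOfOver (BasedFunctor.comp e (FibCat.fpFst y f)) = (AlgSp.yon S).map t) :
    Nonempty (BasedFunctor.comp (BasedFunctor.comp (chart s) (BasedFunctor.comp e (FibCat.fpSnd y f))) f ≅
      BasedFunctor.comp (AlgSt.overMap t) y) := by
  obtain ⟨l⟩ := exists_iso_spMapOfOver (BasedFunctor.comp e (FibCat.fpFst y f))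
  have h1 : BasedFunctor.comp (chart s) (BasedFunctor.comp e (FibCat.fpFst y f)) ≅ AlgSt.overMap t := by
    rw [← chart_yon_map, ← hs, ← chart_comp]
    exact whiskerLeftIso (chart s) l
  exact ⟨(whiskerLeftIso (BasedFunctor.comp (chart s) e) (FibCat.fpIso y f).symm :
    _ ≅ BasedFunctor.comp (BasedFunctor.comp (chart s) e) (BasedFunctor.comp (FibCat.fpFst y f) y)) ≪≫
    (whiskerRightIso h1 y : BasedFunctor.comp (BasedFunctor.comp (chart s) (BasedFunctor.comp e (FibCat.fpFst y f))) y ≅ _)⟩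

end K748.Lift
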