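import Groth.Agent.AlgSt.K748.ThmC
import Groth.Agent.AlgSt.K743.FpChart
import Groth.Agent.S18325

/-!
# Points of an algebraic stack over Henselian local rings lift to affine smooth charts (helper748)

* `exists_family_hens`: one sequence of algebraic spaces smooth over `𝒵` through which all points of `𝒵` with values in
  Henselian local rings factor.
* `exists_affine_smooth_chart`: S18310 (no separation hypothesis is needed).
-/

set_option autoImplicit false
set_option backward.isDefEq.respectTransparency false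
set_option backward.isDefEq.respectTransparency.types false

universe w' w v₂ u₂ v u

open CategoryTheory CategoryTheory.Limits AlgebraicGeometry Opposite K735.Fib K735.Fp

namespace K748.El

variable {S : Scheme.{u}}

theorem exists_family_hens (𝒵 : AlgSt.Cat S) (h𝒵 : AlgSt.IsAlgStack Scheme.fppfPrecoverage 𝒵) :
    ∃ (V : ℕ → AlgSp.Space S) (q : ∀ n, AlgSt.ofSp (V n).obj ⥤ᵇ 𝒵),
      (∀ n, AlgSt.RepByAlgSpWith (AlgSp.LocP @Smooth) (q n)) ∧
      ∀ (R : Type u) [CommRing R] [HenselianLocalRing R] (str : Spec (CommRingCat.of R) ⟶ S)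
        (z : FibCat.overCat (Over.mk str) ⥤ᵇ 𝒵),
        ∃ (n : ℕ) (v : (AlgSp.yon S).obj (Over.mk str) ⟶ (V n).obj),
          Nonempty (BasedFunctor.comp (K735.SpFp.chart v) (q n) ≅ z) := by
  obtain ⟨V, q, hq, hpt⟩ := exists_family 𝒵 h𝒵
  refine ⟨V, q, hq, fun R _ _ str z => ?_⟩
  obtain ⟨n, v, ⟨e⟩⟩ := hpt (IsLocalRing.ResidueField R) (Spec.map (CommRingCat.ofHom (IsLocalRing.residue R)) ≫ str)
    (BasedFunctor.comp (AlgSt.overMap (Over.homMk (Spec.map (CommRingCat.ofHom (IsLocalRing.residue R))) rfl :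
      Over.mk ((Spec.map (CommRingCat.ofHom (IsLocalRing.residue R))) ≫ str) ⟶ Over.mk str)) z)
  obtain ⟨z', -, e'⟩ := Groth.Agent.S18325.result 𝒵 h𝒵 (V n) (q n) (hq n) R str z v ⟨e⟩
  exact ⟨n, z', e'⟩

/-- S18310. -/
theorem exists_affine_smooth_chart (𝒵 : AlgSt.Cat S) (h𝒵 : AlgSt.IsAlgStack Scheme.fppfPrecoverage 𝒵)
    (R : Type u) [CommRing R] [HenselianLocalRing R] (str : Spec (CommRingCat.of R) ⟶ S)
    (z : FibCat.overCat (Over.mk str) ⥤ᵇ 𝒵) :
    ∃ (Z : Over S) (_ : IsAffine Z.left) (p : FibCat.overCat Z ⥤ᵇ 𝒵) (g : Over.mk str ⟶ Z),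
      AlgSt.RepByAlgSpWith (AlgSp.LocP @Smooth) p ∧
        Nonempty (BasedFunctor.comp (AlgSt.overMap g) p ≅ z) := by
  obtain ⟨V, q, hq, hpt⟩ := exists_family_hens 𝒵 h𝒵
  obtain ⟨n, v, ⟨e⟩⟩ := hpt R str z
  obtain ⟨Z, a, g, hZ, ha, hg⟩ := K651.Hens.exists_affine_etale_chart (V n).property str v
  refine ⟨Z, hZ, BasedFunctor.comp (AlgSt.ofOverCat Z) (BasedFunctor.comp (AlgSt.ofSpMap a) (q n)), g, ?_, ⟨?_⟩⟩
  · exact K743.FpChart.locP_chart_comp K597.etLoc_smooth (fun _ _ f _ => inferInstance) (V n).property a ha (q n) (hq n)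
  · have h1 : BasedFunctor.comp (AlgSt.overMap g) (BasedFunctor.comp (AlgSt.ofOverCat Z)
        (BasedFunctor.comp (AlgSt.ofSpMap a) (q n))) = BasedFunctor.comp (K735.SpFp.chart v) (q n) := by
      rw [← hg]
      rfl
    exact eqToIso h1 ≪≫ e

end K748.El
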