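import Groth.Agent.AlgSt.K748.FPsh
import Groth.Agent.AlgSp.K748.Weil3

/-!
# The category of multisections of a chart along a torsor (helper748)

For `p : (Sch/U) ⟶ 𝒵` and `π : D ⟶ P`: objects `z ∈ 𝒵_T` with `c : T ⟶ P` and a `U`-point of `z` over `T ×_P D`.
-/

set_option autoImplicit false
set_option backward.isDefEq.respectTransparency false
set_option backward.isDefEq.respectTransparency.types false

universe w' w v₂ u₂ v u

open CategoryTheory CategoryTheory.Limits AlgebraicGeometry Opposite K735.Fib K735.Fp K748.Weil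

namespace K748.El

variable {S : Scheme.{u}} {𝒵 : BasedCategory.{u, w} (Over S)} {U : Over S} (p : FibCat.overCat U ⥤ᵇ 𝒵)

/-- A `U`-point over `z`. -/
structure Pt (z : 𝒵.obj) (W : Over S) where
  u : W ⟶ U
  m : p.obj (ob u) ⟶ z

variable {p}

theorem Pt.ext' {z : 𝒵.obj} {W : Over S} {a b : Pt p z W} (hu : a.u = b.u)
    (hm : ∀ h : 𝟙 W ≫ b.u = a.u, p.map (ar (𝟙 W) h) ≫ b.m = a.m) : a = b := by
  obtain ⟨u, m⟩ := a
  obtain ⟨u', m'⟩ := b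
  dsimp only at hu hm
  subst hu
  have := hm (Category.id_comp _)
  rw [ar_id, p.map_id, Category.id_comp] at this
  subst this
  rfl

/-- Restriction. -/
def Pt.res {z : 𝒵.obj} {W W' : Over S} (v : W' ⟶ W) (a : Pt p z W) : Pt p z W' :=
  ⟨v ≫ a.u, p.map (ar v rfl) ≫ a.m⟩

/-- Push forward. -/
def Pt.push {z z' : 𝒵.obj} (φ : z ⟶ z') {W : Over S} (a : Pt p z W) : Pt p z' W := ⟨a.u, a.m ≫ φ⟩

theorem Pt.push_res {z z' : 𝒵.obj} (φ : z ⟶ z') {W W' : Over S} (v : W' ⟶ W) (a : Pt p z W) :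
    (a.res v).push φ = (a.push φ).res v := by
  simp only [Pt.push, Pt.res, Category.assoc]

theorem Pt.push_push {z z' z'' : 𝒵.obj} (φ : z ⟶ z') (φ' : z' ⟶ z'') {W : Over S} (a : Pt p z W) :
    (a.push φ).push φ' = a.push (φ ≫ φ') := by
  simp only [Pt.push, Category.assoc]

theorem Pt.push_id {z : 𝒵.obj} {W : Over S} (a : Pt p z W) : a.push (𝟙 z) = a := by
  simp only [Pt.push, Category.comp_id]

/-- The point lies over `w`. -/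
def Pt.Over' {z : 𝒵.obj} {W : Over S} (a : Pt p z W) (w : W ⟶ 𝒵.p.obj z) : Prop :=
  𝒵.p.map a.m = eqToHom (p.w_obj (ob a.u)) ≫ w

theorem Pt.Over'.res {z : 𝒵.obj} {W W' : Over S} {a : Pt p z W} {w : W ⟶ 𝒵.p.obj z} (h : a.Over' w) (v : W' ⟶ W) :
    (a.res v).Over' (v ≫ w) := by
  change 𝒵.p.map (p.map (ar v rfl) ≫ a.m) = _
  rw [Functor.map_comp, p_map_ar, h]
  simp [Pt.res]

theorem Pt.Over'.push {z z' : 𝒵.obj} (φ : z ⟶ z') {W : Over S} {a : Pt p z W} {w : W ⟶ 𝒵.p.obj z} (h : a.Over' w) :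
    (a.push φ).Over' (w ≫ 𝒵.p.map φ) := by
  change 𝒵.p.map (a.m ≫ φ) = _
  rw [Functor.map_comp, h]
  simp [Pt.push]

theorem Pt.push_inj (h𝒵 : FibCat.IsFibGrpd 𝒵.p) {z z' : 𝒵.obj} (φ : z ⟶ z') {W : Over S} {a b : Pt p z W}
    {w : W ⟶ 𝒵.p.obj z} (ha : a.Over' w) (hb : b.Over' w) (h : a.push φ = b.push φ) : a = b := by
  obtain ⟨u, m⟩ := a
  obtain ⟨u', m'⟩ := b
  have hu : u = u' := congrArg Pt.u h
  subst hu
  have hm : m ≫ φ = m' ≫ φ := by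
    simpa only [Pt.push, Pt.mk.injEq, heq_eq_eq, true_and] using h
  have : m = m' := hom_ext' h𝒵 φ (ha.trans hb.symm) hm
  subst this
  rfl

theorem Pt.exists_push (h𝒵 : FibCat.IsFibGrpd 𝒵.p) {z z' : 𝒵.obj} (φ : z ⟶ z') {W : Over S} (a : Pt p z' W)
    (w : W ⟶ 𝒵.p.obj z) (ha : a.Over' (w ≫ 𝒵.p.map φ)) : ∃ b : Pt p z W, b.Over' w ∧ b.push φ = a := by
  obtain ⟨m, h1, h2⟩ := exists_hom h𝒵 φ a.m (eqToHom (p.w_obj (ob a.u)) ≫ w) (by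
    rw [Category.assoc]
    exact ha.symm)
  exact ⟨⟨a.u, m⟩, h1, by simp only [Pt.push, h2]⟩

variable {P D : Over S} (p) (π : D ⟶ P)

/-- A multisection over `z`. -/
structure MSec (z : 𝒵.obj) where
  c : 𝒵.p.obj z ⟶ P
  s : ∀ (W : Over S) (w : W ⟶ 𝒵.p.obj z) (d : W ⟶ D), w ≫ c = d ≫ π → Pt p z W
  hs : ∀ (W : Over S) (w : W ⟶ 𝒵.p.obj z) (d : W ⟶ D) (h : w ≫ c = d ≫ π), (s W w d h).Over' w
  nat : ∀ (W W' : Over S) (v : W' ⟶ W) (w : W ⟶ 𝒵.p.obj z) (d : W ⟶ D) (h : w ≫ c = d ≫ π)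
    (h' : (v ≫ w) ≫ c = (v ≫ d) ≫ π), (s W w d h).res v = s W' (v ≫ w) (v ≫ d) h'

variable {p π}

theorem MSec.ext {z : 𝒵.obj} {x y : MSec p π z} (hc : x.c = y.c)
    (hs : ∀ (W : Over S) (w : W ⟶ 𝒵.p.obj z) (d : W ⟶ D) (h : w ≫ x.c = d ≫ π) (h' : w ≫ y.c = d ≫ π),
      x.s W w d h = y.s W w d h') : x = y := by
  obtain ⟨c, s, h1, h2⟩ := x
  obtain ⟨c', s', h1', h2'⟩ := y
  dsimp only at hc hs
  subst hc
  have : s = s' := by
    funext W w d h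
    exact hs W w d h h
  subst this
  rfl

theorem MSec.congr {z : 𝒵.obj} (x : MSec p π z) {W : Over S} {w w' : W ⟶ 𝒵.p.obj z} {d d' : W ⟶ D}
    (h : w ≫ x.c = d ≫ π) (hw : w = w') (hd : d = d') (h' : w' ≫ x.c = d' ≫ π) : x.s W w d h = x.s W w' d' h' := by
  subst hw hd
  rfl

/-- The multisection `x'` over `z'` is the restriction of `x` along `φ`. -/
def MSec.IsRes {z z' : 𝒵.obj} (φ : z' ⟶ z) (x : MSec p π z) (x' : MSec p π z') : Prop :=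
  𝒵.p.map φ ≫ x.c = x'.c ∧ ∀ (W : Over S) (w : W ⟶ 𝒵.p.obj z') (d : W ⟶ D) (h : w ≫ x'.c = d ≫ π)
    (h' : (w ≫ 𝒵.p.map φ) ≫ x.c = d ≫ π), (x'.s W w d h).push φ = x.s W (w ≫ 𝒵.p.map φ) d h'

theorem MSec.exists_isRes (h𝒵 : FibCat.IsFibGrpd 𝒵.p) {z z' : 𝒵.obj} (φ : z' ⟶ z) (x : MSec p π z) :
    ∃ x' : MSec p π z', MSec.IsRes φ x x' := by
  choose s h1 h2 using fun (W : Over S) (w : W ⟶ 𝒵.p.obj z') (d : W ⟶ D) (h : (w ≫ 𝒵.p.map φ) ≫ x.c = d ≫ π) =>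
    Pt.exists_push h𝒵 φ (x.s W (w ≫ 𝒵.p.map φ) d h) w (x.hs _ _ _ _)
  refine ⟨⟨𝒵.p.map φ ≫ x.c, fun W w d h => s W w d (by rw [Category.assoc, h]), fun W w d h => h1 _ _ _ _,
    fun W W' v w d h h' => ?_⟩, rfl, fun W w d h h' => h2 _ _ _ _⟩
  refine Pt.push_inj h𝒵 φ ((h1 _ _ _ _).res v) (h1 _ _ _ _) ?_
  rw [Pt.push_res, h2, h2, x.nat W W' v _ d _ (by rw [Category.assoc, Category.assoc, h, Category.assoc])]
  exact x.congr _ (Category.assoc _ _ _).symm rfl _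

theorem MSec.IsRes.unique (h𝒵 : FibCat.IsFibGrpd 𝒵.p) {z z' : 𝒵.obj} {φ : z' ⟶ z} {x : MSec p π z}
    {x' x'' : MSec p π z'} (h : MSec.IsRes φ x x') (h' : MSec.IsRes φ x x'') : x' = x'' := by
  refine MSec.ext (h.1.symm.trans h'.1) fun W w d h1 h2 => ?_
  have h3 : (w ≫ 𝒵.p.map φ) ≫ x.c = d ≫ π := by rw [Category.assoc, h.1, h1]
  exact Pt.push_inj h𝒵 φ (x'.hs _ _ _ _) (x''.hs _ _ _ _) ((h.2 W w d h1 h3).trans (h'.2 W w d h2 h3).symm)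

theorem MSec.IsRes.id {z : 𝒵.obj} (x : MSec p π z) : MSec.IsRes (𝟙 z) x x := by
  refine ⟨by rw [𝒵.p.map_id, Category.id_comp], fun W w d h h' => ?_⟩
  rw [Pt.push_id]
  exact x.congr _ (by rw [𝒵.p.map_id, Category.comp_id]) rfl _

theorem MSec.IsRes.comp {z z' z'' : 𝒵.obj} {φ : z' ⟶ z} {φ' : z'' ⟶ z'} {x : MSec p π z} {x' : MSec p π z'}
    {x'' : MSec p π z''} (h : MSec.IsRes φ x x') (h' : MSec.IsRes φ' x' x'') : MSec.IsRes (φ' ≫ φ) x x'' := by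
  refine ⟨by rw [Functor.map_comp, Category.assoc, h.1, h'.1], fun W w d h1 h2 => ?_⟩
  have h3 : (w ≫ 𝒵.p.map φ') ≫ x'.c = d ≫ π := by rw [Category.assoc, h'.1, h1]
  have h4 : ((w ≫ 𝒵.p.map φ') ≫ 𝒵.p.map φ) ≫ x.c = d ≫ π := by rw [Category.assoc, h.1, h3]
  rw [← Pt.push_push, h'.2 W w d h1 h3, h.2 W _ d h3 h4]
  exact x.congr _ (by rw [Functor.map_comp, Category.assoc]) rfl _

variable (p π) in
/-- The presheaf of multisections on the total category of `𝒵`. -/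
noncomputable def mpsh (h𝒵 : FibCat.IsFibGrpd 𝒵.p) : 𝒵.objᵒᵖ ⥤ Type (u + 1) where
  obj z := MSec p π z.unop
  map {z z'} φ := ↾fun x => (MSec.exists_isRes h𝒵 φ.unop x).choose
  map_id z := by
    ext x
    exact ((MSec.exists_isRes h𝒵 (𝟙 z.unop) x).choose_spec).unique h𝒵 (MSec.IsRes.id x)
  map_comp {z z' z''} φ φ' := by
    ext x
    exact ((MSec.exists_isRes h𝒵 (φ'.unop ≫ φ.unop) x).choose_spec).unique h𝒵
      (((MSec.exists_isRes h𝒵 φ.unop x).choose_spec).comp (MSec.exists_isRes h𝒵 φ'.unop _).choose_spec)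

theorem mpsh_map_eq_iff (h𝒵 : FibCat.IsFibGrpd 𝒵.p) {z z' : 𝒵.obj} (φ : z' ⟶ z) (x : MSec p π z) (x' : MSec p π z') :
    (mpsh p π h𝒵).map φ.op x = x' ↔ MSec.IsRes φ x x' := by
  have h := (MSec.exists_isRes h𝒵 φ x).choose_spec
  constructor
  · intro e
    rw [← e]
    exact h
  · intro e
    exact h.unique h𝒵 e

end K748.El
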