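import Groth.Agent.AlgSt.K748.Multi

/-!
# The category of multisections: base changes to schemes (helper748)
-/

set_option autoImplicit false
set_option backward.isDefEq.respectTransparency false
set_option backward.isDefEq.respectTransparency.types false

universe w' w v₂ u₂ v u

open CategoryTheory CategoryTheory.Limits AlgebraicGeometry Opposite K735.Fib K735.Fp K748.Weil

namespace K748.El

variable {S : Scheme.{u}} {𝒵 : BasedCategory.{u, w} (Over S)} {B U : Over S}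
  {y : FibCat.overCat B ⥤ᵇ 𝒵} {p : FibCat.overCat U ⥤ᵇ 𝒵}

theorem Pt.Over'.congr {z : 𝒵.obj} {W : Over S} {a : Pt p z W} {w w' : W ⟶ 𝒵.p.obj z} (h : a.Over' w) (e : w = w') :
    a.Over' w' := e ▸ h

/-- The point attached to a section of the 2-fibre product. -/
def toPt {β : (FibCat.overCat B).obj} {W : Over S} (f : FSec y p W) (t : W ⟶ β.left) (ht : t ≫ β.hom = f.b) :
    Pt p (y.obj β) W := ⟨f.u, f.ψ ≫ y.map (Over.homMk t ht : ob f.b ⟶ β)⟩

theorem toPt_congr {β : (FibCat.overCat B).obj} {W : Over S} {f f' : FSec y p W} {t t' : W ⟶ β.left}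
    (ht : t ≫ β.hom = f.b) (ht' : t' ≫ β.hom = f'.b) (hf : f = f') (htt : t = t') : toPt f t ht = toPt f' t' ht' := by
  subst hf htt
  rfl

theorem toPt_over {β : (FibCat.overCat B).obj} {W : Over S} (f : FSec y p W) (t : W ⟶ β.left)
    (ht : t ≫ β.hom = f.b) : (toPt f t ht).Over' (t ≫ eqToHom (y.w_obj β).symm) := by
  change 𝒵.p.map (f.ψ ≫ y.map _) = _
  rw [Functor.map_comp, f.hψ.map_eq, K735.Fib.map_map]
  change _ ≫ _ ≫ t ≫ _ = _
  simp [toPt]

theorem toPt_res {β : (FibCat.overCat B).obj} {W W' : Over S} {v : W' ⟶ W} {f : FSec y p W} {f' : FSec y p W'}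
    (h : FSec.IsRes v f f') (t : W ⟶ β.left) (ht : t ≫ β.hom = f.b) (ht' : (v ≫ t) ≫ β.hom = f'.b) :
    (toPt f t ht).res v = toPt f' (v ≫ t) ht' := by
  obtain ⟨hb, hu, h⟩ := h
  obtain ⟨b, u, ψ, hψ⟩ := f'
  dsimp only at hb hu h ht'
  subst hb hu
  change (⟨v ≫ f.u, p.map (ar v rfl) ≫ f.ψ ≫ y.map (Over.homMk t ht : ob f.b ⟶ β)⟩ : Pt p (y.obj β) W') =
    ⟨v ≫ f.u, ψ ≫ y.map (Over.homMk (v ≫ t) ht' : ob (v ≫ f.b) ⟶ β)⟩
  congr 1
  rw [← Category.assoc, h, Category.assoc, ← y.map_comp]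
  rfl

theorem toPt_inj (h𝒵 : FibCat.IsFibGrpd 𝒵.p) {β : (FibCat.overCat B).obj} {W : Over S} {f f' : FSec y p W}
    {t : W ⟶ β.left} {ht : t ≫ β.hom = f.b} {ht' : t ≫ β.hom = f'.b} (h : toPt f t ht = toPt f' t ht') : f = f' := by
  obtain ⟨b, u, ψ, hψ⟩ := f
  obtain ⟨b', u', ψ', hψ'⟩ := f'
  dsimp only at ht ht'
  subst ht ht'
  have hu : u = u' := congrArg Pt.u h
  subst hu
  have hm : ψ ≫ y.map (Over.homMk t rfl : ob (t ≫ β.hom) ⟶ β) = ψ' ≫ y.map (Over.homMk t rfl : ob (t ≫ β.hom) ⟶ β) := by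
    simpa only [toPt, Pt.mk.injEq, heq_eq_eq, true_and] using h
  have : ψ = ψ' := hom_ext' h𝒵 _ (hψ.map_eq.trans hψ'.map_eq.symm) hm
  subst this
  rfl

theorem exists_toPt (h𝒵 : FibCat.IsFibGrpd 𝒵.p) {β : (FibCat.overCat B).obj} {W : Over S} (a : Pt p (y.obj β) W)
    (t : W ⟶ β.left) (ha : a.Over' (t ≫ eqToHom (y.w_obj β).symm)) :
    ∃ (f : FSec y p W) (ht : t ≫ β.hom = f.b), toPt f t ht = a := by
  obtain ⟨ψ, h1, h2⟩ := exists_hom h𝒵 (y.map (Over.homMk t rfl : ob (t ≫ β.hom) ⟶ β)) a.m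
    (eqToHom ((p.w_obj (ob a.u)).trans (y.w_obj (ob (t ≫ β.hom))).symm)) (by
      rw [K735.Fib.map_map, ha]
      change _ ≫ _ ≫ t ≫ _ = _
      simp)
  exact ⟨⟨t ≫ β.hom, a.u, ψ, vert_of_map_eq _ h1⟩, rfl, by simp only [toPt, h2]⟩

theorem toPt_push {β β' : (FibCat.overCat B).obj} (τ : β' ⟶ β) {W : Over S} (f : FSec y p W) (t : W ⟶ β'.left)
    (ht : t ≫ β'.hom = f.b) (ht' : (t ≫ τ.left) ≫ β.hom = f.b) :
    (toPt f t ht).push (y.map τ) = toPt f (t ≫ τ.left) ht' := by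
  change (⟨f.u, (f.ψ ≫ y.map _) ≫ y.map τ⟩ : Pt p (y.obj β) W) = ⟨f.u, f.ψ ≫ y.map _⟩
  rw [Category.assoc, ← y.map_comp]
  rfl

variable {P D : Over S} (π : D ⟶ P) (h𝒵 : FibCat.IsFibGrpd 𝒵.p)
  (hsh : Presheaf.IsSheaf (AlgSp.J S) (fpsh y p h𝒵))

/-- The sheaf of the 2-fibre product. -/
noncomputable abbrev fsh : AlgSp.Sp S := ⟨fpsh y p h𝒵, hsh⟩

/-- Its structure map. -/
noncomputable abbrev fφ : fsh h𝒵 hsh ⟶ (AlgSp.yon S).obj B := ObjectProperty.homMk (fb y p h𝒵)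

variable {π h𝒵 hsh}

/-- The underlying sections. -/
def sOf {T : Over S} (x : WSec π (fφ h𝒵 hsh) T) {W : Over S} (w : W ⟶ T) (d : W ⟶ D) (h : w ≫ x.c = d ≫ π) :
    FSec y p W := x.s W w d h

theorem sOf_b {T : Over S} (x : WSec π (fφ h𝒵 hsh) T) {W : Over S} (w : W ⟶ T) (d : W ⟶ D) (h : w ≫ x.c = d ≫ π) :
    w ≫ x.b = (sOf x w d h).b := congrArg ULift.down (x.hs W w d h).symm

theorem sOf_isRes {T : Over S} (x : WSec π (fφ h𝒵 hsh) T) {W W' : Over S} (v : W' ⟶ W) (w : W ⟶ T) (d : W ⟶ D)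
    (h : w ≫ x.c = d ≫ π) (h' : (v ≫ w) ≫ x.c = (v ≫ d) ≫ π) :
    FSec.IsRes v (sOf x w d h) (sOf x (v ≫ w) (v ≫ d) h') :=
  (fpsh_map_eq_iff h𝒵 v _ _).1 (x.nat W W' v w d h h')

theorem sOf_congr {T : Over S} (x : WSec π (fφ h𝒵 hsh) T) {W : Over S} {w w' : W ⟶ T} {d d' : W ⟶ D}
    (h : w ≫ x.c = d ≫ π) (hw : w = w') (hd : d = d') (h' : w' ≫ x.c = d' ≫ π) :
    sOf x w d h = sOf x w' d' h' := x.congr h hw hd h'

/-- The multisection attached to a section of the sheaf. -/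
noncomputable def toMSec (β : (FibCat.overCat B).obj) (x : WSec π (fφ h𝒵 hsh) β.left) (hx : x.b = β.hom) :
    MSec p π (y.obj β) where
  c := eqToHom (y.w_obj β) ≫ x.c
  s W w d h := toPt (sOf x (w ≫ eqToHom (y.w_obj β)) d (by rw [Category.assoc, h])) (w ≫ eqToHom (y.w_obj β))
    (by rw [← hx]; exact sOf_b _ _ _ _)
  hs W w d h := by
    have h1 := toPt_over (sOf x (w ≫ eqToHom (y.w_obj β)) d (by rw [Category.assoc, h])) (w ≫ eqToHom (y.w_obj β))
      (by rw [← hx]; exact sOf_b _ _ _ _)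
    exact h1.congr (by rw [Category.assoc, eqToHom_trans, eqToHom_refl, Category.comp_id])
  nat W W' v w d h h' := by
    refine (toPt_res (sOf_isRes x v (w ≫ eqToHom (y.w_obj β)) d (by rw [Category.assoc, h]) (by
      rw [Category.assoc, Category.assoc, h, Category.assoc])) _ _ (by
        rw [← hx]; exact sOf_b _ _ _ _)).trans ?_
    exact toPt_congr _ _ (sOf_congr x _ (Category.assoc _ _ _).symm rfl _) (Category.assoc _ _ _).symm

theorem toMSec_inj (β : (FibCat.overCat B).obj) (x x' : WSec π (fφ h𝒵 hsh) β.left) (hx : x.b = β.hom)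
    (hx' : x'.b = β.hom) (h : toMSec β x hx = toMSec β x' hx') : x = x' := by
  have hc : x.c = x'.c := by
    have : eqToHom (y.w_obj β) ≫ x.c = eqToHom (y.w_obj β) ≫ x'.c := congrArg MSec.c h
    exact (cancel_epi _).1 this
  refine WSec.ext (hx.trans hx'.symm) hc fun W w d h1 h2 => ?_
  have key : ∀ (m m' : MSec p π (y.obj β)) (_ : m = m') (w' : W ⟶ 𝒵.p.obj (y.obj β)) (h3 : w' ≫ m.c = d ≫ π)
      (h4 : w' ≫ m'.c = d ≫ π), m.s W w' d h3 = m'.s W w' d h4 := by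
    rintro m m' rfl w' h3 h4
    rfl
  have h3 : (w ≫ eqToHom (y.w_obj β).symm) ≫ (toMSec β x hx).c = d ≫ π := by
    change (w ≫ eqToHom (y.w_obj β).symm) ≫ eqToHom (y.w_obj β) ≫ x.c = _
    simpa using h1
  have h4 : (w ≫ eqToHom (y.w_obj β).symm) ≫ (toMSec β x' hx').c = d ≫ π := by
    change (w ≫ eqToHom (y.w_obj β).symm) ≫ eqToHom (y.w_obj β) ≫ x'.c = _
    simpa using h2
  have h5 := key _ _ h (w ≫ eqToHom (y.w_obj β).symm) h3 h4
  have e : (w ≫ eqToHom (y.w_obj β).symm) ≫ eqToHom (y.w_obj β) = w := by simp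
  have h6 : toPt (sOf x w d h1) w (by rw [← hx]; exact sOf_b _ _ _ _) =
      toPt (sOf x' w d h2) w (by rw [← hx']; exact sOf_b _ _ _ _) := by
    refine Eq.trans ?_ (h5.trans ?_)
    · exact toPt_congr _ _ (sOf_congr x _ e.symm rfl _) e.symm
    · exact toPt_congr _ _ (sOf_congr x' _ e rfl _) e
  exact toPt_inj h𝒵 h6

theorem toMSec_surj (β : (FibCat.overCat B).obj) (m : MSec p π (y.obj β)) :
    ∃ (x : WSec π (fφ h𝒵 hsh) β.left) (hx : x.b = β.hom), toMSec β x hx = m := by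
  have hcond : ∀ {W : Over S} (w : W ⟶ β.left) (d : W ⟶ D), w ≫ eqToHom (y.w_obj β).symm ≫ m.c = d ≫ π →
      (w ≫ eqToHom (y.w_obj β).symm) ≫ m.c = d ≫ π := fun w d h => by rw [Category.assoc, h]
  choose f hf hfm using fun (W : Over S) (w : W ⟶ β.left) (d : W ⟶ D)
      (h : w ≫ eqToHom (y.w_obj β).symm ≫ m.c = d ≫ π) =>
    exists_toPt h𝒵 (m.s W (w ≫ eqToHom (y.w_obj β).symm) d (hcond w d h)) w (m.hs _ _ _ _)
  let x : WSec π (fφ h𝒵 hsh) β.left :=
    { b := β.hom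
      c := eqToHom (y.w_obj β).symm ≫ m.c
      s := fun W w d h => f W w d h
      hs := fun W w d h => congrArg ULift.up (hf W w d h).symm
      nat := fun W W' v w d h h' => by
        refine (fpsh_map_eq_iff h𝒵 v _ _).2 ?_
        obtain ⟨g, hg⟩ := FSec.exists_isRes h𝒵 v (f W w d h)
        have hgb : (v ≫ w) ≫ β.hom = g.b := by rw [Category.assoc, hf W w d h]; exact hg.choose
        have : g = f W' (v ≫ w) (v ≫ d) h' := by
          refine toPt_inj (β := β) h𝒵 (t := v ≫ w) (ht := hgb) (ht' := hf _ _ _ _) ?_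
          rw [hfm, ← toPt_res hg w (hf W w d h) hgb, hfm, m.nat W W' v _ _ _ (by
            rw [Category.assoc, Category.assoc, h, Category.assoc])]
          exact m.congr _ (Category.assoc _ _ _).symm rfl _
        rwa [this] at hg }
  refine ⟨x, rfl, MSec.ext ?_ fun W w d h h' => ?_⟩
  · change eqToHom _ ≫ eqToHom _ ≫ m.c = m.c
    simp
  · change toPt (f W (w ≫ eqToHom (y.w_obj β)) d _) _ _ = _
    rw [hfm]
    exact m.congr _ (by simp) rfl _

theorem toMSec_nat (β β' : (FibCat.overCat B).obj) (t : β' ⟶ β) (x : WSec π (fφ h𝒵 hsh) β.left) (hx : x.b = β.hom)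
    (hx' : (x.res t.left).b = β'.hom) : MSec.IsRes (y.map t) (toMSec β x hx) (toMSec β' (x.res t.left) hx') := by
  have e : 𝒵.p.map (y.map t) ≫ eqToHom (y.w_obj β) = eqToHom (y.w_obj β') ≫ t.left := by
    rw [K735.Fib.map_map]
    change (_ ≫ t.left ≫ _) ≫ _ = _
    simp
  refine ⟨?_, fun W w d h h' => ?_⟩
  · change 𝒵.p.map (y.map t) ≫ eqToHom _ ≫ x.c = eqToHom _ ≫ t.left ≫ x.c
    rw [← Category.assoc, e, Category.assoc]
  · have e2 : (w ≫ 𝒵.p.map (y.map t)) ≫ eqToHom (y.w_obj β) = (w ≫ eqToHom (y.w_obj β')) ≫ t.left := by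
      rw [Category.assoc, e, Category.assoc]
    refine (toPt_push t _ _ _ ?_).trans ?_
    · rw [← hx]
      exact sOf_b x ((w ≫ eqToHom (y.w_obj β')) ≫ t.left) d _
    · exact toPt_congr _ _ (sOf_congr x _ e2.symm rfl _) e2.symm

variable (y) in
/-- The model of the base changes of the category of multisections. -/
noncomputable def model (h𝒵 : FibCat.IsFibGrpd 𝒵.p) (hsh : Presheaf.IsSheaf (AlgSp.J S) (fpsh y p h𝒵)) :
    Model (mpsh p π h𝒵) y (H := (wsh π (fφ h𝒵 hsh)).obj) (toB π (fφ h𝒵 hsh)).hom where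
  κ β x hx := toMSec β x hx
  inj β x x' hx hx' h := toMSec_inj β x x' hx hx' h
  surj β m := by
    obtain ⟨x, hx, h⟩ := toMSec_surj (hsh := hsh) β m
    exact ⟨x, hx, h⟩
  nat β β' t x hx hx' := (mpsh_map_eq_iff h𝒵 (y.map t) _ _).2 (toMSec_nat β β' t x hx hx')

end K748.El
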