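import Groth.Agent.AlgSt.K748.Multi2
import Groth.Agent.AlgSt.K735.Setoid
import Groth.Agent.Stk.K751.Loc
import Groth.Agent.AlgSt.K738.RespIso

/-!
# The category of multisections: representable over `𝒵`, fibred in setoids (helper748)
-/

set_option autoImplicit false
set_option backward.isDefEq.respectTransparency false
set_option backward.isDefEq.respectTransparency.types false

universe w' w v₂ u₂ v u

open CategoryTheory CategoryTheory.Limits AlgebraicGeometry Opposite K735.Fib K735.Fp K748.Weil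

namespace K748.El

variable {S : Scheme.{u}} {𝒵 : BasedCategory.{u, w} (Over S)} {B U : Over S}
  {p : FibCat.overCat U ⥤ᵇ 𝒵} {P D : Over S} {π : D ⟶ P}

/-- The category of multisections of a smooth chart is representable and smooth over `𝒵`. -/
theorem repByAlgSpWith_elq {G : Type w'} [Finite G] (τ : Tors G π) (hπ : Etale π.left) (hπ' : Surjective π.left)
    (hD : Smooth D.hom) (h𝒵 : FibCat.IsFibGrpd 𝒵.p) (hp : AlgSt.RepByAlgSpWith (AlgSp.LocP @Smooth) p) :
    AlgSt.RepByAlgSpWith (AlgSp.LocP @Smooth) (elq (mpsh p π h𝒵)) := by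
  refine repByAlgSpWith_of_model fun B y => ?_
  obtain ⟨hsh, hF, hP⟩ := exists_sheaf h𝒵 hp y
  obtain ⟨h1, h2⟩ := isAlgSpace_wsh (φ := fφ h𝒵 hsh) τ hπ hπ' hD hF hP
  exact ⟨wsh π (fφ h𝒵 hsh), toB π (fφ h𝒵 hsh), model y h𝒵 hsh, h1, h2⟩

/-- The sieve of maps along which `c` lifts to `D`. -/
def liftSieve {T : Over S} (π : D ⟶ P) (c : T ⟶ P) : Sieve T where
  arrows W w := ∃ d : W ⟶ D, w ≫ c = d ≫ π
  downward_closed := by
    rintro W W' w ⟨d, hd⟩ v
    exact ⟨v ≫ d, by rw [Category.assoc, hd, Category.assoc]⟩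

theorem liftSieve_mem {T : Over S} (hπ : Etale π.left) (hπ' : Surjective π.left) (c : T ⟶ P) :
    liftSieve π c ∈ AlgSp.J S T := by
  have sq := (IsPullback.of_hasPullback c π).map (Over.forget S)
  have h1 : Etale (pullback.fst c π).left := MorphismProperty.of_isPullback (P := @Etale) sq.flip hπ
  have h2 : Surjective (pullback.fst c π).left := MorphismProperty.of_isPullback (P := @Surjective) sq.flip hπ'
  refine (AlgSp.J S).superset_covering ?_ (K613.Basic.mem_J (ι := PUnit.{u + 1}) (fun _ => pullback c π)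
    (fun _ => pullback.fst c π) (fun _ => inferInstance) (fun _ => inferInstance) (fun t => ⟨⟨⟩, h2.surj t⟩))
  rintro W w ⟨_, v, _, ⟨⟩, rfl⟩
  exact ⟨v ≫ pullback.snd c π, by rw [Category.assoc, pullback.condition, Category.assoc]⟩

/-- The category of multisections is fibred in setoids. -/
theorem isFibSetoid_el (hπ : Etale π.left) (hπ' : Surjective π.left)
    (h𝒵 : Stk.IsPrestack (QuotSh.J Scheme.fppfPrecoverage S) 𝒵) :
    FibCat.IsFibSetoid (el (mpsh p π h𝒵.1)).p := by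
  refine K735.Setoid.isFibSetoid_of_hom_ext (isFibGrpd_el _ h𝒵.1) fun {a b} φ ψ h => ?_
  apply Stk.EltObj.hom_ext
  have hφ : MSec.IsRes φ.hom b.sec a.sec := (mpsh_map_eq_iff h𝒵.1 φ.hom _ _).1 φ.map_sec
  have hψ : MSec.IsRes ψ.hom b.sec a.sec := (mpsh_map_eq_iff h𝒵.1 ψ.hom _ _).1 ψ.map_sec
  have h' : 𝒵.p.map φ.hom = 𝒵.p.map ψ.hom := h
  refine K751.Loc.ext_of_cover h𝒵 (R := liftSieve π (MSec.c a.sec)) (liftSieve_mem hπ hπ' _) h' ?_
  rintro z α ⟨d, hd⟩
  -- the `U`-point of `a` over `z`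
  have h1 := hφ.2 _ (𝒵.p.map α) d hd (by rw [Category.assoc, hφ.1, hd])
  have h2 := hψ.2 _ (𝒵.p.map α) d hd (by rw [Category.assoc, hψ.1, hd])
  have h3 : (MSec.s a.sec _ (𝒵.p.map α) d hd).push φ.hom = (MSec.s a.sec _ (𝒵.p.map α) d hd).push ψ.hom := by
    rw [h1, h2]
    exact MSec.congr b.sec _ (by rw [h']) rfl _
  have h4 : (MSec.s a.sec _ (𝒵.p.map α) d hd).m ≫ φ.hom = (MSec.s a.sec _ (𝒵.p.map α) d hd).m ≫ ψ.hom := by
    simpa only [Pt.push, Pt.mk.injEq, heq_eq_eq, true_and] using h3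
  have h5 : (MSec.s a.sec _ (𝒵.p.map α) d hd).Over' (𝒵.p.map α) := MSec.hs a.sec _ _ _ _
  obtain ⟨χ, -, hχ⟩ := exists_hom h𝒵.1 (MSec.s a.sec _ (𝒵.p.map α) d hd).m α
    (eqToHom (p.w_obj (ob (MSec.s a.sec _ (𝒵.p.map α) d hd).u)).symm) (by
      have h6 := h5
      unfold Pt.Over' at h6
      rw [h6]
      simp)
  rw [← hχ, Category.assoc, h4, Category.assoc]

end K748.El
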