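import Groth.Agent.AlgSt.K748.Multi3
import Groth.Agent.AlgSp.K748.SepPt
import Groth.Agent.AlgSt.K740.SpIso

/-!
# Field-valued points lift to multisections (helper748)
-/

set_option autoImplicit false
set_option backward.isDefEq.respectTransparency false
set_option backward.isDefEq.respectTransparency.types false

universe w' w v₂ u₂ v u

open CategoryTheory CategoryTheory.Limits AlgebraicGeometry Opposite K735.Fib K735.Fp K748.Weil K748.Conf

namespace K748.El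

variable {S : Scheme.{u}} {𝒵 : BasedCategory.{u, w} (Over S)} {U : Over S}
  {p : FibCat.overCat U ⥤ᵇ 𝒵} {P D : Over S} {π : D ⟶ P}

theorem Pt.Over'.congr' {z : 𝒵.obj} {W : Over S} {a : Pt p z W} {w w' : W ⟶ 𝒵.p.obj z} (h : a.Over' w) (e : w = w') :
    a.Over' w' := e ▸ h

theorem Pt.res_res {z : 𝒵.obj} {W W' W'' : Over S} (v : W' ⟶ W) (v' : W'' ⟶ W') (a : Pt p z W) :
    (a.res v).res v' = a.res (v' ≫ v) := by
  apply Pt.ext'
  · exact (Category.assoc _ _ _).symm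
  · intro h
    change p.map (ar (𝟙 W'') h) ≫ p.map (ar (v' ≫ v) rfl) ≫ a.m = p.map (ar v' rfl) ≫ p.map (ar v rfl) ≫ a.m
    rw [← Category.assoc, ← Category.assoc, ← p.map_comp, ← p.map_comp]
    congr 2

/-- A multisection from one point. -/
theorem exists_msec {z : 𝒵.obj} (c : 𝒵.p.obj z ⟶ P) {K' : Over S} (b : K' ⟶ 𝒵.p.obj z) (a : Pt p z K')
    (ha : a.Over' b) (Q : ∀ W : Over S, (W ⟶ K') → (W ⟶ D) → Prop)
    (hQ : ∀ (W W' : Over S) (v : W' ⟶ W) (e : W ⟶ K') (d : W ⟶ D), Q W e d → Q W' (v ≫ e) (v ≫ d))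
    (H : ∀ (W : Over S) (w : W ⟶ 𝒵.p.obj z) (d : W ⟶ D), w ≫ c = d ≫ π → ∃! e : W ⟶ K', e ≫ b = w ∧ Q W e d) :
    Nonempty (MSec p π z) := by
  choose e he hu using H
  refine ⟨⟨c, fun W w d h => a.res (e W w d h), fun W w d h => (ha.res (e W w d h)).congr' (he W w d h).1,
    fun W W' v w d h h' => ?_⟩⟩
  rw [Pt.res_res]
  congr 1
  refine hu W' _ _ h' _ ⟨?_, hQ _ _ _ _ _ (he W w d h).2⟩
  rw [Category.assoc, (he W w d h).1]

/-- Every field-valued point lifts to a multisection of a smooth surjective chart, for some configuration torsor. -/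
theorem exists_point (h𝒵 : FibCat.IsFibGrpd 𝒵.p) (hp : AlgSt.RepByAlgSpWith (AlgSp.LocP @Smooth) p)
    (hp' : AlgSt.RepByAlgSpWith AlgSp.IsSurjectiveMor p) (k : Type u) [Field k] (sk : Spec (.of k) ⟶ S)
    (x : FibCat.overCat (Over.mk sk) ⥤ᵇ 𝒵) :
    ∃ (n : ℕ) (v : FibCat.overCat (Over.mk sk) ⥤ᵇ el (mpsh p (K748.Conf.π (ULift.{u} (Fin n)) S) h𝒵)),
      Nonempty (BasedFunctor.comp v (elq _) ≅ x) := by
  obtain ⟨hsh, hF, hP⟩ := exists_sheaf h𝒵 hp x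
  obtain ⟨_, -, hP'⟩ := exists_sheaf h𝒵 hp' x
  obtain ⟨κ, _, _, _, _, ξ, hξ⟩ := exists_sep_point hF _ hP hP'
  obtain ⟨n, c, Q, hQ, H⟩ := exists_conf_point (S := S) k κ sk
  obtain ⟨t, ht⟩ : ∃ t : FSec x p (Over.mk (Spec.map (CommRingCat.ofHom (algebraMap k κ)) ≫ sk)),
      t.b = toK k κ sk := by
    refine ⟨ξ.hom.app (op _) ⟨𝟙 _⟩, ?_⟩
    have h1 := congrArg (fun f : (AlgSp.yon S).obj (Over.mk (Spec.map (CommRingCat.ofHom (algebraMap k κ)) ≫ sk)) ⟶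
      (AlgSp.yon S).obj (Over.mk sk) => f.hom.app (op _) (⟨𝟙 _⟩ : ULift _)) hξ
    have h2 := congrArg ULift.down h1
    exact h2.trans (Category.id_comp (toK k κ sk))
  have hz : 𝒵.p.obj (x.obj (idObj (Over.mk sk))) = Over.mk sk := x.w_obj _
  obtain ⟨s⟩ : Nonempty (MSec p (K748.Conf.π (ULift.{u} (Fin n)) S) (x.obj (idObj (Over.mk sk)))) := by
    have hb : (toK k κ sk ≫ (idObj (Over.mk sk)).hom) = t.b := by
      rw [ht]
      exact Category.comp_id _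
    refine exists_msec (eqToHom hz ≫ c) (toK k κ sk ≫ eqToHom hz.symm) (toPt (β := idObj (Over.mk sk)) t (toK k κ sk) hb)
      (toPt_over t _ hb) Q hQ fun W w d h => ?_
    obtain ⟨e, ⟨he1, he2⟩, he3⟩ := H W (w ≫ eqToHom hz) d (by rw [Category.assoc, h])
    refine ⟨e, ⟨?_, he2⟩, fun e' ⟨h1, h2⟩ => he3 e' ⟨?_, h2⟩⟩
    · rw [← Category.assoc, he1, Category.assoc, eqToHom_trans, eqToHom_refl, Category.comp_id]
    · rw [← h1, Category.assoc, Category.assoc, eqToHom_trans, eqToHom_refl, Category.comp_id]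
  let a : (el (mpsh p (K748.Conf.π (ULift.{u} (Fin n)) S) h𝒵)).obj := ⟨x.obj (idObj (Over.mk sk)), s⟩
  have ha : (el (mpsh p (K748.Conf.π (ULift.{u} (Fin n)) S) h𝒵)).p.obj a = Over.mk sk := hz
  refine ⟨n, yonF (isFibGrpd_el _ h𝒵) a ha, ⟨yonIso h𝒵 _ _ ((elq _).map (yonFIso (isFibGrpd_el _ h𝒵) a ha).hom) ?_⟩⟩
  exact (vert_yonFIso (isFibGrpd_el _ h𝒵) a ha).map (elq _)

end K748.El
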