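import Groth.Agent.AlgSt.K748.SchP
import Groth.Agent.AlgSp.K597.QAff
import Groth.Agent.AlgSp.K629.Basic
import Groth.Agent.AlgSt.K740.SpIso
import Groth.Agent.AlgSt.K738.RespIso
import Groth.Agent.S10505
import Groth.Agent.S10537

/-!
# Quasi-affine diagonals and quasi-affine charts (helper748)
-/

set_option autoImplicit false
set_option backward.isDefEq.respectTransparency false
set_option backward.isDefEq.respectTransparency.types false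

universe w v₂ u₂ v u

open CategoryTheory CategoryTheory.Limits AlgebraicGeometry Opposite K735.Fib K735.Fp

namespace K748.El

variable {S : Scheme.{u}} {𝒵 : BasedCategory.{u, w} (Over S)} {B U : Over S}

/-- The 2-isomorphism attached to a section of the 2-fibre product. -/
theorem FSec.exists_iso (h𝒵 : FibCat.IsFibGrpd 𝒵.p) {y : FibCat.overCat B ⥤ᵇ 𝒵} {p : FibCat.overCat U ⥤ᵇ 𝒵}
    {R : Over S} (f : FSec y p R) :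
    Nonempty (BasedFunctor.comp (AlgSt.overMap f.u) p ≅ BasedFunctor.comp (AlgSt.overMap f.b) y) := by
  have h1 : Vert 𝒵.p (p.map (ar (𝟙 R) rfl : ob (𝟙 R ≫ f.u) ⟶ ob f.u)) := by
    rw [vert_map_iff]
    exact vert_of_map_eq rfl rfl
  have hc : 𝟙 R ≫ 𝟙 R ≫ f.b = f.b := by rw [Category.id_comp, Category.id_comp]
  have h2 : Vert 𝒵.p (y.map (ar (𝟙 R) hc : ob f.b ⟶ ob (𝟙 R ≫ f.b))) := by
    rw [vert_map_iff]
    exact vert_of_map_eq rfl rfl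
  exact ⟨yonIso h𝒵 _ _ (p.map (ar (𝟙 R) rfl : ob (𝟙 R ≫ f.u) ⟶ ob f.u) ≫ f.ψ ≫
    y.map (ar (𝟙 R) hc : ob f.b ⟶ ob (𝟙 R ≫ f.b))) (h1.comp (f.hψ.comp h2))⟩

section Congr

open K739.Isom

variable {T : Over S} {x₁ x₂ x₁' x₂' : FibCat.overCat T ⥤ᵇ 𝒵}
  (φ : BasedFunctor.comp x₁ (FibCat.toSelf 𝒵) ≅ BasedFunctor.comp x₂ (FibCat.toSelf 𝒵))
  (φ' : BasedFunctor.comp x₁' (FibCat.toSelf 𝒵) ≅ BasedFunctor.comp x₂' (FibCat.toSelf 𝒵))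
  (e₁ : x₁ ≅ x₁') (e₂ : x₂ ≅ x₂')

/-- Transport of sections of Isom. -/
def secCongr {R : Over S} (s : Sec (FibCat.toSelf 𝒵) x₁ x₂ φ R) : Sec (FibCat.toSelf 𝒵) x₁' x₂' φ' R :=
  have h : Vert 𝒵.p ((isoApp e₁ (pt s.u)).inv ≫ s.ψ ≫ (isoApp e₂ (pt s.u)).hom) :=
    (Vert.iso_inv (vert_isoApp e₁ _)).comp ((vert_of_isHomLift s.lift).comp (vert_isoApp e₂ _))
  ⟨s.u, (isoApp e₁ (pt s.u)).inv ≫ s.ψ ≫ (isoApp e₂ (pt s.u)).hom, h.isHomLift (x₁'.w_obj _), by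
    have h1 : Vert (FibCat.selfOver (Over S)).p ((FibCat.toSelf 𝒵).map
      ((isoApp e₁ (pt s.u)).inv ≫ s.ψ ≫ (isoApp e₂ (pt s.u)).hom)) := h.map _
    have h2 : Vert (FibCat.selfOver (Over S)).p (φ'.hom.toNatTrans.app (pt s.u)) := vert_app φ'.hom _
    exact h1.map_eq.trans h2.map_eq.symm⟩

theorem secCongr_ψ {R : Over S} (s : Sec (FibCat.toSelf 𝒵) x₁ x₂ φ R) :
    (secCongr φ φ' e₁ e₂ s).ψ = (isoApp e₁ (pt s.u)).inv ≫ s.ψ ≫ (isoApp e₂ (pt s.u)).hom := rfl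

/-- Transport of sections of Isom. -/
def secEquiv (R : Over S) : Sec (FibCat.toSelf 𝒵) x₁ x₂ φ R ≃ Sec (FibCat.toSelf 𝒵) x₁' x₂' φ' R where
  toFun := secCongr φ φ' e₁ e₂
  invFun := secCongr φ' φ e₁.symm e₂.symm
  left_inv s := by
    obtain ⟨u, ψ, h1, h2⟩ := s
    refine K739.Diag.sec_ext ?_
    change (isoApp e₁ (pt u)).hom ≫ ((isoApp e₁ (pt u)).inv ≫ ψ ≫ (isoApp e₂ (pt u)).hom) ≫ (isoApp e₂ (pt u)).inv = ψ
    simp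
  right_inv s := by
    obtain ⟨u, ψ, h1, h2⟩ := s
    refine K739.Diag.sec_ext ?_
    change (isoApp e₁ (pt u)).inv ≫ ((isoApp e₁ (pt u)).hom ≫ ψ ≫ (isoApp e₂ (pt u)).inv) ≫ (isoApp e₂ (pt u)).hom = ψ
    simp

theorem secEquiv_isRes {R R' : Over S} (t : R' ⟶ R) (s : Sec (FibCat.toSelf 𝒵) x₁ x₂ φ R)
    (s' : Sec (FibCat.toSelf 𝒵) x₁ x₂ φ R') (h : IsRes t s s') :
    IsRes t (secEquiv φ φ' e₁ e₂ R s) (secEquiv φ φ' e₁ e₂ R' s') := by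
  obtain ⟨h1, h2⟩ := h
  refine ⟨h1, ?_⟩
  change x₁'.map (arr t h1) ≫ (isoApp e₁ (pt s.u)).inv ≫ s.ψ ≫ (isoApp e₂ (pt s.u)).hom =
    ((isoApp e₁ (pt s'.u)).inv ≫ s'.ψ ≫ (isoApp e₂ (pt s'.u)).hom) ≫ x₂'.map (arr t h1)
  have n1 := isoApp_inv_nat e₁ (arr t h1)
  have n2 := isoApp_nat e₂ (arr t h1)
  rw [Category.assoc, Category.assoc, ← n2, reassoc_of% n1, reassoc_of% h2]

theorem SchP.isom_congr (h𝒵 : FibCat.IsFibGrpd 𝒵.p) {Q : MorphismProperty Scheme.{u}}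
    (h : SchP Q (toBase (FibCat.toSelf 𝒵) x₁ x₂ φ h𝒵 isFibGrpd_selfOver)) (e₁ : x₁ ≅ x₁') (e₂ : x₂ ≅ x₂') :
    SchP Q (toBase (FibCat.toSelf 𝒵) x₁' x₂' φ' h𝒵 isFibGrpd_selfOver) := by
  refine h.of_iso (K739.Diag.isoOf h𝒵 isFibGrpd_selfOver h𝒵 isFibGrpd_selfOver (secEquiv φ φ' e₁ e₂)
    (fun T T' t s s' hs => secEquiv_isRes φ φ' e₁ e₂ t s s' hs)) ?_
  ext T s
  rfl

end Congr

end K748.El
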