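import Groth.Agent.AlgSt.K748.QAffDiag
import Groth.Agent.AlgSt.K748.Lift

/-!
# Quasi-affine diagonals and quasi-affine charts: S16858 (helper748)
-/

set_option autoImplicit false
set_option backward.isDefEq.respectTransparency false
set_option backward.isDefEq.respectTransparency.types false

universe w v₂ u₂ v u

open CategoryTheory CategoryTheory.Limits AlgebraicGeometry Opposite K735.Fib K735.Fp
  Groth.Agent.Ega2.QuasiAffine

namespace K748.El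

variable {S : Scheme.{u}} {𝒵 : BasedCategory.{u, w} (Over S)} {B U : Over S}

theorem exists_smooth_sec (h𝒵 : FibCat.IsFibGrpd 𝒵.p) {x : FibCat.overCat U ⥤ᵇ 𝒵}
    (hx : AlgSt.RepByAlgSpWith (AlgSp.LocP @Smooth) x) (hx' : AlgSt.RepByAlgSpWith AlgSp.IsSurjectiveMor x)
    {T : Over S} (y : FibCat.overCat T ⥤ᵇ 𝒵) :
    ∃ (R : Over S) (f : FSec y x R), Smooth f.b.left ∧ Surjective f.b.left := by
  obtain ⟨hsh, hF, hP⟩ := exists_sheaf h𝒵 hx y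
  obtain ⟨_, -, hP'⟩ := exists_sheaf h𝒵 hx' y
  obtain ⟨R, p, hp1, hp2⟩ := hF.atlas
  let f : FSec y x R := p.hom.app (op R) ⟨𝟙 R⟩
  have hf : (AlgSp.yon S).map f.b = p ≫ ObjectProperty.homMk (fb y x h𝒵) := by
    obtain ⟨c, hc⟩ := (AlgSp.yon S).map_surjective (p ≫ ObjectProperty.homMk (fb y x h𝒵))
    rw [← hc]
    congr 1
    have h1 := congrArg (fun t : (AlgSp.yon S).obj R ⟶ (AlgSp.yon S).obj T => t.hom.app (op R) (⟨𝟙 R⟩ : ULift _)) hc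
    have h2 := congrArg ULift.down h1
    exact (h2.symm.trans (Category.id_comp c))
  refine ⟨R, f, ?_, ?_⟩
  · exact hP p (𝟙 _) f.b hp1 (AlgSp.repWith_id _ _) (by rw [Category.comp_id, hf])
  · refine ⟨fun t => ?_⟩
    obtain ⟨z, hz⟩ := hP' (AlgSp.Points.ofPt (𝟙 _) t)
    obtain ⟨r, rfl⟩ := K629.Basic.ofPt_surjective hp2 z
    refine ⟨r, ?_⟩
    rw [AlgSp.Points.map_ofPt, ← hf] at hz
    have h1 := congrArg (AlgSp.Points.toScheme T) hz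
    rw [AlgSp.Points.toScheme_ofPt, AlgSp.Points.toScheme_ofScheme] at h1
    exact h1

theorem exists_res (h𝒵 : FibCat.IsFibGrpd 𝒵.p) {y : FibCat.overCat B ⥤ᵇ 𝒵} {p : FibCat.overCat U ⥤ᵇ 𝒵}
    {R R' : Over S} (f : FSec y p R) (r : R' ⟶ R) : ∃ f' : FSec y p R', f'.b = r ≫ f.b ∧ f'.u = r ≫ f.u := by
  obtain ⟨f', h1, h2, -⟩ := FSec.exists_isRes h𝒵 r f
  exact ⟨f', h1.symm, h2.symm⟩

theorem exists_factor {y : FibCat.overCat B ⥤ᵇ 𝒵} {p : FibCat.overCat U ⥤ᵇ 𝒵}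
    {R V : Over S} (f : FSec y p R) (i : V ⟶ U) (v : R ⟶ V) (h : v ≫ i = f.u) :
    ∃ g : FSec y (BasedFunctor.comp (AlgSt.overMap i) p) R, g.b = f.b ∧ g.u = v := by
  obtain ⟨b, u, ψ, hψ⟩ := f
  dsimp only at h
  subst h
  exact ⟨⟨b, v, ψ, hψ⟩, rfl, rfl⟩

/-- Two points of `𝒵` over `T` lift to a smooth surjective chart on a smooth covering. -/
theorem exists_two_sec (h𝒵 : FibCat.IsFibGrpd 𝒵.p) {x : FibCat.overCat U ⥤ᵇ 𝒵}
    (hx : AlgSt.RepByAlgSpWith (AlgSp.LocP @Smooth) x) (hx' : AlgSt.RepByAlgSpWith AlgSp.IsSurjectiveMor x)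
    {T : Over S} (x₁ x₂ : FibCat.overCat T ⥤ᵇ 𝒵) :
    ∃ (R : Over S) (f₁ : FSec x₁ x R) (f₂ : FSec x₂ x R), f₁.b = f₂.b ∧ Smooth f₁.b.left ∧ Surjective f₁.b.left := by
  obtain ⟨R₁, f₁, h1, h2⟩ := exists_smooth_sec h𝒵 hx hx' x₁
  obtain ⟨R, f₂, h3, h4⟩ := exists_smooth_sec h𝒵 hx hx' (BasedFunctor.comp (AlgSt.overMap f₁.b) x₂)
  obtain ⟨f₁', h5, h6⟩ := exists_res h𝒵 f₁ f₂.b
  refine ⟨R, f₁', ⟨f₂.b ≫ f₁.b, f₂.u, f₂.ψ, f₂.hψ⟩, h5, ?_, ?_⟩
  · rw [h5, Over.comp_left]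
    infer_instance
  · rw [h5, Over.comp_left]
    infer_instance

theorem qaff_iff ⦃F G : AlgSp.Sp S⦄ (f : F ⟶ G) : AlgSp.IsQuasiAffineMor f ↔ AlgSp.RepWith QAff f :=
  K597.QAff.isQuasiAffineMor_iff

open K739.Isom in
theorem schP_of_secs (h𝒵 : FibCat.IsFibGrpd 𝒵.p) {V W : Over S} {p₁ : FibCat.overCat V ⥤ᵇ 𝒵}
    {p₂ : FibCat.overCat W ⥤ᵇ 𝒵} (hp₁ : AlgSt.RepByAlgSpWith AlgSp.IsQuasiAffineMor p₁) [QuasiSeparated V.hom]
    {T R : Over S} {x₁ x₂ : FibCat.overCat T ⥤ᵇ 𝒵} (g₁ : FSec x₁ p₁ R) (g₂ : FSec x₂ p₂ R) {r : R ⟶ T}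
    (h₁ : g₁.b = r) (h₂ : g₂.b = r)
    (φ : BasedFunctor.comp (BasedFunctor.comp (AlgSt.overMap r) x₁) (FibCat.toSelf 𝒵) ≅
      BasedFunctor.comp (BasedFunctor.comp (AlgSt.overMap r) x₂) (FibCat.toSelf 𝒵)) :
    SchP QAff (toBase (FibCat.toSelf 𝒵) _ _ φ h𝒵 isFibGrpd_selfOver) := by
  have h1 : SchP QAff (fb p₂ p₁ h𝒵) := (repByAlgSpWith_iff_schP qaff_iff h𝒵 p₁).1 hp₁ W p₂
  let φ₀ : BasedFunctor.comp (BasedFunctor.comp (AlgSt.overMap (prod.snd : W ⨯ V ⟶ V)) p₁) (FibCat.toSelf 𝒵) ≅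
    BasedFunctor.comp (BasedFunctor.comp (AlgSt.overMap (prod.fst : W ⨯ V ⟶ W)) p₂) (FibCat.toSelf 𝒵) :=
      K734.Rep.isoSelfOver _ _
  have h2 := h1.of_iso (q' := toBase (FibCat.toSelf 𝒵)
      (BasedFunctor.comp (AlgSt.overMap (prod.snd : W ⨯ V ⟶ V)) p₁)
      (BasedFunctor.comp (AlgSt.overMap (prod.fst : W ⨯ V ⟶ W)) p₂) φ₀ h𝒵 isFibGrpd_selfOver ≫
        (AlgSp.pyon S).map prod.fst) (isomFp p₂ p₁ h𝒵 φ₀).symm (by
    rw [← isomFp_fb, Iso.symm_hom, Iso.inv_hom_id_assoc])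
  have hV : QuasiSeparated (prod.fst : W ⨯ V ⟶ W).left := by
    have sq : IsPullback (prod.fst : W ⨯ V ⟶ W) prod.snd (Over.mkIdTerminal.from W) (Over.mkIdTerminal.from V) :=
      IsPullback.of_isLimit_binaryFan_of_isTerminal (limit.isLimit _) Over.mkIdTerminal
    have sq' := sq.map (Over.forget S)
    have h1 : QuasiSeparated (Over.mkIdTerminal.from V).left := by
      have e : (Over.mkIdTerminal.from V).left = V.hom := by
        simp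
      rw [e]
      infer_instance
    exact MorphismProperty.of_isPullback (P := @QuasiSeparated) sq'.flip h1
  have h3 := SchP.of_comp (Q := QAff) (Q' := @QuasiSeparated) (Q'' := QAff)
    (fun X Y Z f g hfg hg => by
      have : QuasiSeparated g := hg
      exact qaff_of_comp f g hfg) (prod.fst : W ⨯ V ⟶ W) h2 hV
  have h4 := h3.of_isPullback (K739.Diag.isPullback_restrict (FibCat.toSelf 𝒵) (prod.lift g₂.u g₁.u) _ _ φ₀ h𝒵
    isFibGrpd_selfOver)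
  obtain ⟨e₁⟩ := g₁.exists_iso h𝒵
  obtain ⟨e₂⟩ := g₂.exists_iso h𝒵
  subst h₁
  refine h4.isom_congr _ φ h𝒵 ?_ ?_
  · refine (whiskerRightIso (K748.Lift.overMapComp (prod.lift g₂.u g₁.u) (prod.snd : W ⨯ V ⟶ V)).symm p₁ :
      BasedFunctor.comp (AlgSt.overMap (prod.lift g₂.u g₁.u)) (BasedFunctor.comp (AlgSt.overMap prod.snd) p₁) ≅
        BasedFunctor.comp (AlgSt.overMap (prod.lift g₂.u g₁.u ≫ prod.snd)) p₁) ≪≫ ?_
    rw [prod.lift_snd]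
    exact e₁
  · refine (whiskerRightIso (K748.Lift.overMapComp (prod.lift g₂.u g₁.u) (prod.fst : W ⨯ V ⟶ W)).symm p₂ :
      BasedFunctor.comp (AlgSt.overMap (prod.lift g₂.u g₁.u)) (BasedFunctor.comp (AlgSt.overMap prod.fst) p₂) ≅
        BasedFunctor.comp (AlgSt.overMap (prod.lift g₂.u g₁.u ≫ prod.fst)) p₂) ≪≫ ?_
    rw [prod.lift_fst]
    refine e₂ ≪≫ eqToIso ?_
    rw [h₂]

/-- fppf descent of quasi-affineness for presheaves over a scheme. -/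
theorem isQuasiAffine_of_cover {T : Over S} {G : AlgSp.Sp S} (hG : AlgSp.IsAlgSpace G) (q : G ⟶ (AlgSp.yon S).obj T)
    {ι : Type u} (R : ι → Over S) (r : ∀ i, R i ⟶ T) (hf : ∀ i, Flat (r i).left)
    (hp : ∀ i, LocallyOfFinitePresentation (r i).left) (hs : ∀ t : T.left, ∃ i, t ∈ Set.range (r i).left)
    (G' : ι → AlgSp.PSp S) (g : ∀ i, G' i ⟶ G.obj) (q' : ∀ i, G' i ⟶ (AlgSp.pyon S).obj (R i))
    (sq : ∀ i, IsPullback (g i) (q' i) q.hom ((AlgSp.pyon S).map (r i))) (h : ∀ i, SchP QAff (q' i)) :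
    AlgSp.IsQuasiAffineMor q := by
  choose W w e h1 h2 using h
  refine (Groth.Agent.S10537.result S (fun i => (AlgSp.yon S).obj (R i)) (fun i => (AlgSp.yon S).map (r i))
    (AlgSp.IsAlgSpace.yon_obj T) (fun i => AlgSp.IsAlgSpace.yon_obj _) ?_ q hG (fun i => (AlgSp.yon S).obj (W i))
    (fun i => (AlgSp.yon S).map (w i)) (fun i => ObjectProperty.homMk ((e i).hom ≫ g i))
    (fun i => AlgSp.IsAlgSpace.yon_obj _) (fun i => ?_)).2 (fun i => ?_)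
  · refine Groth.Agent.S10505.result ⟨(AlgSp.yon S).obj T, AlgSp.IsAlgSpace.yon_obj T⟩
      (fun i => ⟨(AlgSp.yon S).obj (R i), AlgSp.IsAlgSpace.yon_obj _⟩)
      (fun i => ObjectProperty.homMk ((AlgSp.yon S).map (r i))) ⟨fun i => ⟨?_, ?_⟩, fun x => ?_⟩
    · exact K597.locP_of_repWith K597.etLoc_flat.precomp ((AlgSp.repWith_yon_map_iff _ _).2 (hf i))
    · exact K597.locP_of_repWith K597.etLoc_lfp.precomp ((AlgSp.repWith_yon_map_iff _ _).2 (hp i))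
    · obtain ⟨i, s, hs'⟩ := hs (AlgSp.Points.toScheme T x)
      refine ⟨i, AlgSp.Points.ofScheme _ s, ?_⟩
      rw [← AlgSp.Points.ofScheme_toScheme T x, ← AlgSp.Points.ofScheme_toScheme T (AlgSp.Points.map _ _)]
      congr 1
      rw [← hs']
      change AlgSp.Points.toScheme T (AlgSp.Points.map ((AlgSp.yon S).map (r i)) (AlgSp.Points.ofScheme (R i) s)) = _
      rw [AlgSp.Points.map_ofPt, Category.id_comp, AlgSp.Points.toScheme_ofPt]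
  · have h3 : IsPullback ((e i).hom ≫ g i) ((AlgSp.pyon S).map (w i)) q.hom ((AlgSp.pyon S).map (r i)) := by
      have h4 : IsPullback (e i).hom ((AlgSp.pyon S).map (w i)) (q' i) (𝟙 _) :=
        IsPullback.of_horiz_isIso ⟨by rw [h1, Category.comp_id]⟩
      simpa using h4.paste_horiz (sq i)
    exact IsPullback.of_map (sheafToPresheaf (AlgSp.J S) _) (by
      apply ObjectProperty.hom_ext
      exact h3.w) h3
  · rw [qaff_iff]
    exact (AlgSp.repWith_yon_map_iff _ _).2 (h2 i)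

end K748.El
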