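import Groth.Agent.AlgSt.K748.QAffDiag2

/-!
# Quasi-affine diagonals and quasi-affine charts: S16858 (helper748)
-/

set_option autoImplicit false
set_option backward.isDefEq.respectTransparency false
set_option backward.isDefEq.respectTransparency.types false

universe w v₂ u₂ v u

open CategoryTheory CategoryTheory.Limits AlgebraicGeometry Opposite K735.Fib K735.Fp
  Groth.Agent.Ega2.QuasiAffine

namespace K748.El

variable {S : Scheme.{u}} {𝒵 : BasedCategory.{u, w} (Over S)} {B U : Over S}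

theorem prod_fst_of (P : MorphismProperty Scheme.{u}) [P.IsStableUnderBaseChange] (W V : Over S) (h : P V.hom) :
    P (prod.fst : W ⨯ V ⟶ W).left := by
  have sq : IsPullback (prod.fst : W ⨯ V ⟶ W) prod.snd (Over.mkIdTerminal.from W) (Over.mkIdTerminal.from V) :=
    IsPullback.of_isLimit_binaryFan_of_isTerminal (limit.isLimit _) Over.mkIdTerminal
  have sq' := sq.map (Over.forget S)
  have h1 : P (Over.mkIdTerminal.from V).left := by
    have e : (Over.mkIdTerminal.from V).left = V.hom := by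
      simp
    rw [e]
    exact h
  exact MorphismProperty.of_isPullback (P := P) sq'.flip h1

theorem repByAlgSpWith_top {𝒳 : BasedCategory.{v₂, u₂} (Over S)} {𝒴 : BasedCategory.{v, w} (Over S)} {f : 𝒳 ⥤ᵇ 𝒴}
    (h : AlgSt.RepByAlgSp1 f) : AlgSt.RepByAlgSpWith ⊤ f := fun U y => by
  obtain ⟨F, e, he⟩ := h U y
  exact ⟨F, e, he, trivial⟩

/-- Charts of a stack with quasi-affine diagonal. -/
theorem isQuasiAffine_chart (h𝒵 : FibCat.IsFibGrpd 𝒵.p)
    (hΔ : AlgSt.RepByAlgSpWith AlgSp.IsQuasiAffineMor (FibCat.diag (FibCat.toSelf 𝒵))) {V : Over S}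
    (hV : IsAffineHom V.hom) (p : FibCat.overCat V ⥤ᵇ 𝒵) : AlgSt.RepByAlgSpWith AlgSp.IsQuasiAffineMor p := by
  rw [repByAlgSpWith_iff_schP qaff_iff h𝒵]
  intro B y
  have h1 := (repByAlgSpWith_diag_iff_schP qaff_iff h𝒵).1 hΔ (B ⨯ V)
    (BasedFunctor.comp (AlgSt.overMap (prod.snd : B ⨯ V ⟶ V)) p)
    (BasedFunctor.comp (AlgSt.overMap (prod.fst : B ⨯ V ⟶ B)) y)
  have h3 : QAff (prod.fst : B ⨯ V ⟶ B).left := by
    have h4 : IsAffineHom (prod.fst : B ⨯ V ⟶ B).left := prod_fst_of @IsAffineHom B V hV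
    refine ⟨inferInstance, fun O hO => ?_⟩
    have : IsAffine ((prod.fst : B ⨯ V ⟶ B).left ⁻¹ᵁ O : Scheme.{u}) := hO.preimage _
    infer_instance
  have h2 := SchP.comp (Q := QAff) (Q' := QAff) (Q'' := QAff) (fun X Y Z f g hf hg => qaff_comp f g hf hg) h1
    (prod.fst : B ⨯ V ⟶ B) h3
  exact h2.of_iso (isomFp y p h𝒵 _) (isomFp_fb y p h𝒵 _)

/-- The converse: the diagonal is quasi-affine as soon as the affine opens of one smooth atlas are. -/
theorem isQuasiAffine_diag [IsAffine S] (h𝒵 : FibCat.IsFibGrpd 𝒵.p)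
    (hΔ : AlgSt.RepByAlgSp1 (FibCat.diag (FibCat.toSelf 𝒵))) (x : FibCat.overCat U ⥤ᵇ 𝒵)
    (hx : AlgSt.RepByAlgSpWith (AlgSp.LocP @Smooth) x) (hx' : AlgSt.RepByAlgSpWith AlgSp.IsSurjectiveMor x)
    (hV : ∀ (V : U.left.Opens), IsAffineOpen V → AlgSt.RepByAlgSpWith AlgSp.IsQuasiAffineMor
      (BasedFunctor.comp (AlgSt.overMap (Over.homMk V.ι rfl : Over.mk (V.ι ≫ U.hom) ⟶ U)) x)) :
    AlgSt.RepByAlgSpWith AlgSp.IsQuasiAffineMor (FibCat.diag (FibCat.toSelf 𝒵)) := by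
  rw [K739.Diag.repByAlgSpWith_diag_iff _ _ h𝒵 isFibGrpd_selfOver]
  intro T x₁ x₂ φ
  obtain ⟨F, α, -⟩ := (K739.Diag.repByAlgSpWith_diag_iff ⊤ _ h𝒵 isFibGrpd_selfOver).1 (repByAlgSpWith_top hΔ) T x₁ x₂ φ
  refine ⟨F, α, ?_⟩
  obtain ⟨R, f₁, f₂, h1, h2, h3⟩ := exists_two_sec h𝒵 hx hx' x₁ x₂
  let O : U.left.affineOpens × U.left.affineOpens → R.left.Opens := fun i =>
    f₁.u.left ⁻¹ᵁ i.1.1 ⊓ f₂.u.left ⁻¹ᵁ i.2.1
  let R' : U.left.affineOpens × U.left.affineOpens → Over S := fun i => Over.mk ((O i).ι ≫ R.hom)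
  let j : ∀ i, R' i ⟶ R := fun i => Over.homMk (O i).ι rfl
  have hj : ∀ i, Smooth (j i ≫ f₁.b).left := fun i => by
    have : IsOpenImmersion (j i).left := inferInstanceAs (IsOpenImmersion (O i).ι)
    rw [Over.comp_left]
    infer_instance
  refine isQuasiAffine_of_cover F.property _ (ι := U.left.affineOpens × U.left.affineOpens) R'
    (fun i => j i ≫ f₁.b) (fun i => ?_) (fun i => ?_) (fun t => ?_)
    (fun i => K739.Isom.psh (FibCat.toSelf 𝒵) (BasedFunctor.comp (AlgSt.overMap (j i ≫ f₁.b)) x₁)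
      (BasedFunctor.comp (AlgSt.overMap (j i ≫ f₁.b)) x₂) (K739.Diag.resIso (FibCat.toSelf 𝒵) (j i ≫ f₁.b) x₁ x₂ φ)
      h𝒵 isFibGrpd_selfOver)
    (fun i => K739.Diag.resMap (FibCat.toSelf 𝒵) (j i ≫ f₁.b) x₁ x₂ φ h𝒵 isFibGrpd_selfOver ≫ α.inv)
    (fun i => K739.Isom.toBase _ _ _ _ _ _) (fun i => ?_) (fun i => ?_)
  · have := hj i
    infer_instance
  · have := hj i
    infer_instance
  · obtain ⟨s, rfl⟩ := h3.surj t
    obtain ⟨_, ⟨V, hV', rfl⟩, hsV, -⟩ := U.left.isBasis_affineOpens.exists_subset_of_mem_open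
      (show f₁.u.left s ∈ (⊤ : Set U.left) from trivial) isOpen_univ
    obtain ⟨_, ⟨W, hW', rfl⟩, hsW, -⟩ := U.left.isBasis_affineOpens.exists_subset_of_mem_open
      (show f₂.u.left s ∈ (⊤ : Set U.left) from trivial) isOpen_univ
    refine ⟨(⟨V, hV'⟩, ⟨W, hW'⟩), ⟨s, ⟨hsV, hsW⟩⟩, ?_⟩
    rfl
  · have sq := K739.Diag.isPullback_restrict (FibCat.toSelf 𝒵) (j i ≫ f₁.b) x₁ x₂ φ h𝒵 isFibGrpd_selfOver
    have sq2 : IsPullback α.inv (K739.Isom.toBase (FibCat.toSelf 𝒵) x₁ x₂ φ h𝒵 isFibGrpd_selfOver)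
        (α.hom ≫ K739.Isom.toBase (FibCat.toSelf 𝒵) x₁ x₂ φ h𝒵 isFibGrpd_selfOver) (𝟙 _) :=
      IsPullback.of_horiz_isIso ⟨by simp⟩
    simpa using sq.paste_horiz sq2
  · let V : Over S := Over.mk (i.1.1.ι ≫ U.hom)
    let W : Over S := Over.mk (i.2.1.ι ≫ U.hom)
    have h5 : Set.range (O i).ι ⊆ f₁.u.left ⁻¹' Set.range i.1.1.ι := by
      rw [Scheme.Opens.range_ι, Scheme.Opens.range_ι]
      exact fun z hz => hz.1
    have h6 : Set.range (O i).ι ⊆ f₂.u.left ⁻¹' Set.range i.2.1.ι := by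
      rw [Scheme.Opens.range_ι, Scheme.Opens.range_ι]
      exact fun z hz => hz.2
    obtain ⟨f₁', h7, h8⟩ := exists_res h𝒵 f₁ (j i)
    obtain ⟨f₂', h9, h10⟩ := exists_res h𝒵 f₂ (j i)
    let v : R' i ⟶ V := Over.homMk (IsOpenImmersion.lift i.1.1.ι ((O i).ι ≫ f₁.u.left) (by
      rintro _ ⟨z, rfl⟩
      exact h5 ⟨z, rfl⟩)) (by
        change _ ≫ i.1.1.ι ≫ U.hom = (O i).ι ≫ R.hom
        rw [IsOpenImmersion.lift_fac_assoc, Category.assoc, Over.w])
    let w : R' i ⟶ W := Over.homMk (IsOpenImmersion.lift i.2.1.ι ((O i).ι ≫ f₂.u.left) (by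
      rintro _ ⟨z, rfl⟩
      exact h6 ⟨z, rfl⟩)) (by
        change _ ≫ i.2.1.ι ≫ U.hom = (O i).ι ≫ R.hom
        rw [IsOpenImmersion.lift_fac_assoc, Category.assoc, Over.w])
    have hv : v ≫ (Over.homMk i.1.1.ι rfl : V ⟶ U) = f₁'.u := by
      rw [h8]
      ext : 1
      exact IsOpenImmersion.lift_fac _ _ _
    have hw : w ≫ (Over.homMk i.2.1.ι rfl : W ⟶ U) = f₂'.u := by
      rw [h10]
      ext : 1
      exact IsOpenImmersion.lift_fac _ _ _
    obtain ⟨g₁, h11, -⟩ := exists_factor f₁' _ v hv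
    obtain ⟨g₂, h12, -⟩ := exists_factor f₂' _ w hw
    have : IsAffine V.left := i.1.2
    have : QuasiSeparated V.hom := by
      have : IsAffineHom V.hom := inferInstance
      infer_instance
    exact schP_of_secs h𝒵 (hV i.1.1 i.1.2) g₁ g₂ (h11.trans h7) (h12.trans (h9.trans (by rw [h1]))) _

end K748.El
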