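import Groth.Agent.AlgSt.K748.FPsh
import Groth.Agent.AlgSt.K739.Diag
import Groth.Agent.AlgSt.K734.FpAlg

/-!
# Relative representability by schemes of presheaves over a scheme; Isom presheaves and 2-fibre products (helper748)

* `SchP Q q`: the presheaf `q : G ⟶ h_B` is a scheme over `B` with property `Q`.
* `isomEquiv`: the Isom presheaf of `p ∘ pr₂`, `y ∘ pr₁` over `B × U` is the presheaf of the 2-fibre product.
-/

set_option autoImplicit false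
set_option backward.isDefEq.respectTransparency false
set_option backward.isDefEq.respectTransparency.types false

universe w v₂ u₂ v u

open CategoryTheory CategoryTheory.Limits AlgebraicGeometry Opposite K735.Fib K735.Fp

namespace K748.El

variable {S : Scheme.{u}}

/-- `q : G ⟶ h_B` is a scheme over `B` with `Q`. -/
def SchP (Q : MorphismProperty Scheme.{u}) {B : Over S} {G : AlgSp.PSp S} (q : G ⟶ (AlgSp.pyon S).obj B) : Prop :=
  ∃ (W : Over S) (w : W ⟶ B) (e : (AlgSp.pyon S).obj W ≅ G), e.hom ≫ q = (AlgSp.pyon S).map w ∧ Q w.left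

theorem SchP.of_iso {Q : MorphismProperty Scheme.{u}} {B : Over S} {G G' : AlgSp.PSp S}
    {q : G ⟶ (AlgSp.pyon S).obj B} {q' : G' ⟶ (AlgSp.pyon S).obj B} (h : SchP Q q) (β : G ≅ G')
    (hβ : β.hom ≫ q' = q) : SchP Q q' := by
  obtain ⟨W, w, e, h1, h2⟩ := h
  exact ⟨W, w, e ≪≫ β, by rw [Iso.trans_hom, Category.assoc, hβ, h1], h2⟩

theorem SchP.comp {Q Q' Q'' : MorphismProperty Scheme.{u}}
    (hQ : ∀ ⦃X Y Z : Scheme.{u}⦄ (f : X ⟶ Y) (g : Y ⟶ Z), Q f → Q' g → Q'' (f ≫ g)) {B C : Over S} {G : AlgSp.PSp S}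
    {q : G ⟶ (AlgSp.pyon S).obj B} (h : SchP Q q) (c : B ⟶ C) (hc : Q' c.left) :
    SchP Q'' (q ≫ (AlgSp.pyon S).map c) := by
  obtain ⟨W, w, e, h1, h2⟩ := h
  exact ⟨W, w ≫ c, e, by rw [← Category.assoc, h1, Functor.map_comp], hQ _ _ h2 hc⟩

theorem SchP.of_comp {Q Q' Q'' : MorphismProperty Scheme.{u}}
    (hQ : ∀ ⦃X Y Z : Scheme.{u}⦄ (f : X ⟶ Y) (g : Y ⟶ Z), Q'' (f ≫ g) → Q' g → Q f) {B C : Over S} {G : AlgSp.PSp S}
    {q : G ⟶ (AlgSp.pyon S).obj B} (c : B ⟶ C) (h : SchP Q'' (q ≫ (AlgSp.pyon S).map c)) (hc : Q' c.left) :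
    SchP Q q := by
  obtain ⟨W, w, e, h1, h2⟩ := h
  obtain ⟨w', hw'⟩ := (AlgSp.pyon S).map_surjective (e.hom ≫ q)
  refine ⟨W, w', e, hw'.symm, hQ w'.left c.left ?_ hc⟩
  have : w' ≫ c = w := (AlgSp.pyon S).map_injective (by rw [Functor.map_comp, hw', Category.assoc, h1])
  rw [← Over.comp_left, this]
  exact h2

theorem SchP.of_isPullback {Q : MorphismProperty Scheme.{u}} [Q.IsStableUnderBaseChange] {B T : Over S}
    {G G' : AlgSp.PSp S} {q : G ⟶ (AlgSp.pyon S).obj B} (h : SchP Q q) {k : T ⟶ B} {g : G' ⟶ G}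
    {q' : G' ⟶ (AlgSp.pyon S).obj T} (sq : IsPullback g q' q ((AlgSp.pyon S).map k)) : SchP Q q' := by
  obtain ⟨W, w, e, h1, h2⟩ := h
  have sq1 : IsPullback ((AlgSp.pyon S).map (pullback.fst w k)) ((AlgSp.pyon S).map (pullback.snd w k))
      ((AlgSp.pyon S).map w) ((AlgSp.pyon S).map k) := (IsPullback.of_hasPullback w k).map (AlgSp.pyon S)
  have sq2 : IsPullback ((AlgSp.pyon S).map (pullback.fst w k) ≫ e.hom) ((AlgSp.pyon S).map (pullback.snd w k))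
      q ((AlgSp.pyon S).map k) := by
    have := sq1.paste_horiz (IsPullback.of_horiz_isIso (fst := e.hom) (snd := (AlgSp.pyon S).map w) (f := q)
      (g := 𝟙 _) ⟨by rw [h1, Category.comp_id]⟩)
    simpa using this
  refine ⟨pullback w k, pullback.snd w k, sq2.isoIsPullback _ _ sq, ?_, ?_⟩
  · exact sq2.isoIsPullback_hom_snd _ _ sq
  · exact MorphismProperty.of_isPullback (P := Q) ((IsPullback.of_hasPullback w k).map (Over.forget S)) h2

theorem repPsh_iff_schP {P : MorphismProperty (AlgSp.Sp S)} {Q : MorphismProperty Scheme.{u}}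
    [Q.IsStableUnderBaseChange] (hPQ : ∀ ⦃F G : AlgSp.Sp S⦄ (f : F ⟶ G), P f ↔ AlgSp.RepWith Q f) {B : Over S}
    {G : AlgSp.PSp S} (q : G ⟶ (AlgSp.pyon S).obj B) : K739.Rep.RepPsh P q ↔ SchP Q q := by
  constructor
  · rintro ⟨F, α, h⟩
    rw [hPQ] at h
    obtain ⟨W, w, f, sq⟩ := h.1 (𝟙 ((AlgSp.yon S).obj B))
    have hi : IsIso f := sq.isIso_fst_of_isIso
    have hQ := h.2 _ _ _ sq
    refine ⟨W, w, (sheafToPresheaf (AlgSp.J S) _).mapIso (asIso f) ≪≫ α, ?_, hQ⟩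
    have h2 := congrArg (fun t => t.hom) sq.w
    change f.hom ≫ α.hom ≫ q = ((AlgSp.yon S).map w).hom ≫ 𝟙 _ at h2
    rw [Category.comp_id] at h2
    change (f.hom ≫ α.hom) ≫ q = _
    rw [Category.assoc]
    exact h2
  · rintro ⟨W, w, e, h1, h2⟩
    refine ⟨⟨(AlgSp.yon S).obj W, AlgSp.IsAlgSpace.yon_obj W⟩, e, ?_⟩
    rw [hPQ]
    have : (ObjectProperty.homMk (e.hom ≫ q) : (AlgSp.yon S).obj W ⟶ (AlgSp.yon S).obj B) = (AlgSp.yon S).map w := by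
      apply ObjectProperty.hom_ext
      exact h1
    have h3 : AlgSp.RepWith Q ((AlgSp.yon S).map w) := (AlgSp.repWith_yon_map_iff _ _).2 h2
    rw [← this] at h3
    exact h3

variable {𝒵 : BasedCategory.{u, w} (Over S)} {B U : Over S}

/-- A functor `(Sch/U) ⟶ 𝒵` is representable with `P` iff the presheaves `fpsh y p` are schemes with `Q`. -/
theorem repByAlgSpWith_iff_schP {P : MorphismProperty (AlgSp.Sp S)} {Q : MorphismProperty Scheme.{u}}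
    [Q.IsStableUnderBaseChange] (hPQ : ∀ ⦃F G : AlgSp.Sp S⦄ (f : F ⟶ G), P f ↔ AlgSp.RepWith Q f)
    (h𝒵 : FibCat.IsFibGrpd 𝒵.p) (p : FibCat.overCat U ⥤ᵇ 𝒵) :
    AlgSt.RepByAlgSpWith P p ↔ ∀ (B : Over S) (y : FibCat.overCat B ⥤ᵇ 𝒵), SchP Q (fb y p h𝒵) := by
  rw [K739.Rep.repByAlgSpWith_iff]
  refine forall₂_congr fun B y => ?_
  rw [K739.Rep.repAt_iff_repPsh _ _ (isEquivOver_toFpF h𝒵), prMap_toFpF, repPsh_iff_schP hPQ]

/-- The same for the diagonal over the base category. -/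
theorem repByAlgSpWith_diag_iff_schP {P : MorphismProperty (AlgSp.Sp S)} {Q : MorphismProperty Scheme.{u}}
    [Q.IsStableUnderBaseChange] (hPQ : ∀ ⦃F G : AlgSp.Sp S⦄ (f : F ⟶ G), P f ↔ AlgSp.RepWith Q f)
    (h𝒵 : FibCat.IsFibGrpd 𝒵.p) :
    AlgSt.RepByAlgSpWith P (FibCat.diag (FibCat.toSelf 𝒵)) ↔ ∀ (B : Over S) (x₁ x₂ : FibCat.overCat B ⥤ᵇ 𝒵),
      SchP Q (K739.Isom.toBase (FibCat.toSelf 𝒵) x₁ x₂ (K734.Rep.isoSelfOver _ _) h𝒵 isFibGrpd_selfOver) := by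
  rw [K739.Diag.repByAlgSpWith_diag_iff _ _ h𝒵 isFibGrpd_selfOver]
  refine forall₃_congr fun B x₁ x₂ => ?_
  rw [← repPsh_iff_schP hPQ]
  refine ⟨fun h => h _, fun h φ => ?_⟩
  have : φ = K734.Rep.isoSelfOver _ _ := Iso.ext (K734.Rep.hom_selfOver_eq _ _)
  rw [this]
  exact h

section Compare

variable (y : FibCat.overCat B ⥤ᵇ 𝒵) (p : FibCat.overCat U ⥤ᵇ 𝒵) (h𝒵 : FibCat.IsFibGrpd 𝒵.p)
  (φ : BasedFunctor.comp (BasedFunctor.comp (AlgSt.overMap (prod.snd : B ⨯ U ⟶ U)) p) (FibCat.toSelf 𝒵) ≅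
    BasedFunctor.comp (BasedFunctor.comp (AlgSt.overMap (prod.fst : B ⨯ U ⟶ B)) y) (FibCat.toSelf 𝒵))

open K739.Isom in
/-- A section of the Isom presheaf over the product, as a section of the 2-fibre product. -/
noncomputable def secToF {T : Over S} (s : Sec (FibCat.toSelf 𝒵) (BasedFunctor.comp (AlgSt.overMap (prod.snd : B ⨯ U ⟶ U)) p)
    (BasedFunctor.comp (AlgSt.overMap (prod.fst : B ⨯ U ⟶ B)) y) φ T) : FSec y p T :=
  ⟨s.u ≫ prod.fst, s.u ≫ prod.snd, s.ψ, vert_of_isHomLift s.lift⟩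

open K739.Isom in
theorem secToF_bijective (T : Over S) : Function.Bijective (secToF y p φ (T := T)) := by
  constructor
  · rintro ⟨u, ψ, hl, hc⟩ ⟨u', ψ', hl', hc'⟩ h
    have h1 : u ≫ prod.fst = u' ≫ prod.fst := congrArg FSec.b h
    have h2 : u ≫ prod.snd = u' ≫ prod.snd := congrArg FSec.u h
    obtain rfl : u = u' := Limits.prod.hom_ext h1 h2
    have h3 : (⟨u ≫ prod.fst, u ≫ prod.snd, ψ, vert_of_isHomLift hl⟩ : FSec y p T) =
      ⟨u ≫ prod.fst, u ≫ prod.snd, ψ', vert_of_isHomLift hl'⟩ := h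
    refine K739.Diag.sec_ext ?_
    injection h3
  · rintro ⟨b, c, ψ, hψ⟩
    obtain ⟨w, rfl, rfl⟩ : ∃ w : T ⟶ B ⨯ U, w ≫ prod.fst = b ∧ w ≫ prod.snd = c :=
      ⟨prod.lift b c, prod.lift_fst _ _, prod.lift_snd _ _⟩
    refine ⟨⟨w, ψ, hψ.isHomLift (p.w_obj _), ?_⟩, rfl⟩
    have h1 : Vert (FibCat.selfOver (Over S)).p ((FibCat.toSelf 𝒵).map ψ) := hψ.map _
    have h2 : Vert (FibCat.selfOver (Over S)).p (φ.hom.toNatTrans.app (pt w)) := vert_app φ.hom _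
    exact h1.map_eq.trans h2.map_eq.symm

open K739.Isom in
theorem secToF_isRes {T T' : Over S} (t : T' ⟶ T) (s : Sec (FibCat.toSelf 𝒵)
      (BasedFunctor.comp (AlgSt.overMap (prod.snd : B ⨯ U ⟶ U)) p)
      (BasedFunctor.comp (AlgSt.overMap (prod.fst : B ⨯ U ⟶ B)) y) φ T) (s' : Sec (FibCat.toSelf 𝒵)
      (BasedFunctor.comp (AlgSt.overMap (prod.snd : B ⨯ U ⟶ U)) p)
      (BasedFunctor.comp (AlgSt.overMap (prod.fst : B ⨯ U ⟶ B)) y) φ T') (h : IsRes t s s') :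
    FSec.IsRes t (secToF y p φ s) (secToF y p φ s') := by
  obtain ⟨h1, h2⟩ := h
  refine ⟨?_, ?_, h2⟩
  · change t ≫ s.u ≫ prod.fst = s'.u ≫ prod.fst
    rw [← h1, Category.assoc]
  · change t ≫ s.u ≫ prod.snd = s'.u ≫ prod.snd
    rw [← h1, Category.assoc]

open K739.Isom in
/-- The Isom presheaf over the product is the presheaf of the 2-fibre product. -/
noncomputable def isomFp : psh (FibCat.toSelf 𝒵) (BasedFunctor.comp (AlgSt.overMap (prod.snd : B ⨯ U ⟶ U)) p)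
    (BasedFunctor.comp (AlgSt.overMap (prod.fst : B ⨯ U ⟶ B)) y) φ h𝒵 isFibGrpd_selfOver ≅ fpsh y p h𝒵 :=
  NatIso.ofComponents (fun T => (Equiv.ofBijective _ (secToF_bijective y p φ T.unop)).toIso) (fun {T T'} t => by
    ext s
    exact ((fpsh_map_eq_iff h𝒵 t.unop _ _).2 (secToF_isRes y p φ t.unop _ _
      ((map_eq_iff h𝒵 isFibGrpd_selfOver t.unop s _).1 rfl))).symm)

open K739.Isom in
theorem isomFp_fb : (isomFp y p h𝒵 φ).hom ≫ fb y p h𝒵 =
    toBase (FibCat.toSelf 𝒵) (BasedFunctor.comp (AlgSt.overMap (prod.snd : B ⨯ U ⟶ U)) p)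
    (BasedFunctor.comp (AlgSt.overMap (prod.fst : B ⨯ U ⟶ B)) y) φ h𝒵 isFibGrpd_selfOver ≫
      (AlgSp.pyon S).map prod.fst := by
  ext T s
  rfl

end Compare

end K748.El
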