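import Groth.Agent.AlgSt.K743.Comp
import Groth.Agent.AlgSt.K743.Pt
import Groth.Agent.AlgSt.K740.DiagRep
import Groth.Agent.AlgSt.K740.SpIso
import Groth.Agent.AlgSt.K735.Pts
import Groth.Agent.S0115

/-!
# Smooth charts of a stack smooth over the base scheme are smooth over the base scheme (helper748)
-/

set_option autoImplicit false
set_option backward.isDefEq.respectTransparency false
set_option backward.isDefEq.respectTransparency.types false

universe v₃ u₃ v₂ u₂ v u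

open CategoryTheory CategoryTheory.Limits AlgebraicGeometry Opposite AlgSt

namespace K748.SmOver

variable {S : Scheme.{u}}

theorem surjective_left {W T : Over S} {𝒴 : BasedCategory.{v₃, u₃} (Over S)} {𝒵 : BasedCategory.{v₂, u₂} (Over S)}
    (h𝒴 : FibCat.IsFibGrpd 𝒴.p)
    (h𝒵 : FibCat.IsFibGrpd 𝒵.p) (a : FibCat.overCat T ⥤ᵇ 𝒴) (y : 𝒵 ⥤ᵇ 𝒴) (s : W ⟶ T)
    (E : FibCat.overCat W ⥤ᵇ FibCat.fp a y) (i : BasedFunctor.comp E (FibCat.fpFst a y) ≅ AlgSt.overMap s)
    (hE : Function.Surjective (Points.map E)) (hy : Function.Surjective (Points.map y)) : Surjective s.left := by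
  refine ⟨fun t => ?_⟩
  obtain ⟨u, hu⟩ := hy (Points.map a (K743.Pt.pt t))
  obtain ⟨z, hz1, -⟩ := K735.Pts.exists_fp h𝒵 (K735.Fp.isFibGrpd_overCat T) h𝒴 a y (K743.Pt.pt t) u hu.symm
  obtain ⟨z, rfl⟩ := hE z
  obtain ⟨z, rfl⟩ : ∃ u', K743.Pt.pt u' = z := ⟨K743.Pt.toPt z, K743.Pt.pt_toPt z⟩
  rw [← K735.Pts.map_comp, K735.Pts.map_congr i, K743.Pt.map_overMap_pt] at hz1
  exact ⟨z, K743.Pt.pt_injective hz1⟩

theorem smooth_id_yon (U : Over S) : AlgSp.LocP @Smooth (𝟙 ((AlgSp.yon S).obj U)) := by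
  rw [← (AlgSp.yon S).map_id]
  exact K597.locP_of_repWith K597.etLoc_smooth.precomp ((AlgSp.repWith_yon_map_iff _ _).2
    (inferInstanceAs (Smooth (𝟙 U.left))))

/-- A scheme which is smooth over the base category is smooth over the base. -/
theorem smooth_hom_of_rep {V : Over S} (y : FibCat.overCat V ⥤ᵇ FibCat.selfOver (Over S))
    (hy : AlgSt.RepByAlgSpWith (AlgSp.LocP @Smooth) y) : Smooth V.hom := by
  let a : FibCat.overCat (Over.mk (𝟙 S)) ⥤ᵇ FibCat.selfOver (Over S) := FibCat.toSelf _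
  have ha := K740.DiagRep.isEquivOver_toSelf_overCat (C := Over S) (T := Over.mk (𝟙 S)) Over.mkIdTerminal
  have ha1 : AlgSt.RepByAlgSpWith (AlgSp.LocP @Smooth) a :=
    K740.SpIso.repByAlgSpWith_of_isEquivOver smooth_id_yon ha
  have ha2 : AlgSt.RepByAlgSpWith AlgSp.IsSurjectiveMor a :=
    K740.SpIso.repByAlgSpWith_of_isEquivOver (fun U => by
      intro x
      exact ⟨x, AlgSp.Points.map_id _⟩) ha
  obtain ⟨W, s, r, E, ⟨i⟩, ⟨j⟩, hs, hr, hE⟩ := K743.Comp.exists_chart₂ y a ha1 hy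
  have h1 : Surjective s.left := surjective_left K735.Fp.isFibGrpd_selfOver (K735.Fp.isFibGrpd_overCat _) y a s E i hE
    (K743.Pt.surjective_of_rep K735.Fp.isFibGrpd_selfOver a ha2)
  have hs' : Smooth s.left := hs
  have hr' : Smooth r.left := hr
  have h2 : s.left ≫ V.hom = r.left := by
    rw [Over.w s]
    have := Over.w r
    exact (this.symm.trans (Category.comp_id r.left))
  have h3 : Smooth (s.left ≫ V.hom) := h2 ▸ hr'
  exact Groth.Agent.S0115.result s.left V.hom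

/-- Smooth charts of a stack smooth over the base are smooth over the base. -/
theorem smooth_hom_of_locQ {𝒵 : BasedCategory.{v₂, u₂} (Over S)} (h𝒵 : FibCat.IsFibGrpd 𝒵.p)
    (hsm : AlgSt.LocQ (AlgSp.LocP @Smooth) (FibCat.toSelf 𝒵)) {Z : Over S} (p : FibCat.overCat Z ⥤ᵇ 𝒵)
    (hp : AlgSt.RepByAlgSpWith (AlgSp.LocP @Smooth) p) : Smooth Z.hom := by
  obtain ⟨U, V, x, y, h, -, hx1, hx2, hy, hh⟩ := hsm
  have hV : Smooth V.hom := smooth_hom_of_rep y hy
  have hh' : Smooth h.left := AlgSp.locP_yon_map hh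
  have hU : Smooth U.hom := by
    rw [← Over.w h]
    infer_instance
  obtain ⟨W, s, r, E, ⟨i⟩, ⟨j⟩, hs, hr, hE⟩ := K743.Comp.exists_chart₂ p x hx1 hp
  have h1 : Surjective s.left := surjective_left h𝒵 (K735.Fp.isFibGrpd_overCat _) p x s E i hE
    (K743.Pt.surjective_of_rep h𝒵 x hx2)
  have hs' : Smooth s.left := hs
  have hr' : Smooth r.left := hr
  have h3 : Smooth (s.left ≫ Z.hom) := by
    rw [Over.w s, ← Over.w r]
    infer_instance
  exact Groth.Agent.S0115.result s.left Z.hom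

end K748.SmOver
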