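import Groth.Agent.AlgSt.K748.Point
import Groth.Agent.AlgSt.K748.Lift
import Groth.Agent.AlgSt.K734.Boot
import Groth.Agent.AlgSt.K740.StackOf
import Groth.Agent.S10104

/-!
# Smooth algebraic spaces over an algebraic stack through which all field-valued points factor (helper748)

`exists_family`: for an algebraic stack `𝒵` (fppf) there is a sequence of algebraic spaces `V n` with smooth
representable functors to `𝒵` such that every field-valued point of `𝒵` lifts to a point of some `V n` with values in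
the same field.
-/

set_option autoImplicit false
set_option backward.isDefEq.respectTransparency false
set_option backward.isDefEq.respectTransparency.types false

universe w' w v₂ u₂ v u

open CategoryTheory CategoryTheory.Limits AlgebraicGeometry Opposite K735.Fib K735.Fp K748.Weil K748.Conf

namespace K748.El

variable {S : Scheme.{u}}

theorem boot (S : Scheme.{u}) : K734.Rep.Boot S := fun F U p hp => Groth.Agent.S10104.result S F U p hp

theorem repByAlgSp1_of_with {𝒳 : BasedCategory.{v₂, u₂} (Over S)} {𝒴 : BasedCategory.{v, w} (Over S)} {f : 𝒳 ⥤ᵇ 𝒴}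
    {P : MorphismProperty (AlgSp.Sp S)} (h : AlgSt.RepByAlgSpWith P f) : AlgSt.RepByAlgSp1 f := fun U y => by
  obtain ⟨F, e, he, -⟩ := h U y
  exact ⟨F, e, he⟩

/-- The space of multisections. -/
theorem repByAlgSp_el (𝒵 : AlgSt.Cat S) (h𝒵 : AlgSt.IsAlgStack Scheme.fppfPrecoverage 𝒵) {U : Over S}
    {p : FibCat.overCat U ⥤ᵇ 𝒵} (hp : AlgSt.RepByAlgSpWith (AlgSp.LocP @Smooth) p) (n : ℕ) :
    AlgSt.RepByAlgSp (el (mpsh p (K748.Conf.π (ULift.{u} (Fin n)) S) h𝒵.isStack.1)) := by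
  have h1 := repByAlgSpWith_elq (tors (ULift.{u} (Fin n)) S) (etale_π _ S) (surj_π _ S) (smooth_D _ S) h𝒵.isStack.1 hp
  have h2 := K740.StackOf.isAlgStack_of_rep1 (isFibGrpd_el _ h𝒵.isStack.1) h𝒵 (elq _) (repByAlgSp1_of_with h1)
  rw [← K734.Rep.isFibSetoid_iff_repByAlgSp (boot S) h2]
  exact isFibSetoid_el (etale_π _ S) (surj_π _ S) (K734.Rep.isPrestack_of_isStack h𝒵.isStack)

theorem exists_family (𝒵 : AlgSt.Cat S) (h𝒵 : AlgSt.IsAlgStack Scheme.fppfPrecoverage 𝒵) :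
    ∃ (V : ℕ → AlgSp.Space S) (q : ∀ n, AlgSt.ofSp (V n).obj ⥤ᵇ 𝒵),
      (∀ n, AlgSt.RepByAlgSpWith (AlgSp.LocP @Smooth) (q n)) ∧
      ∀ (k : Type u) [Field k] (sk : Spec (CommRingCat.of k) ⟶ S) (x : FibCat.overCat (Over.mk sk) ⥤ᵇ 𝒵),
        ∃ (n : ℕ) (v : (AlgSp.yon S).obj (Over.mk sk) ⟶ (V n).obj),
          Nonempty (BasedFunctor.comp (K735.SpFp.chart v) (q n) ≅ x) := by
  obtain ⟨U, p, hp, hp'⟩ := h𝒵.atlas
  choose V a ha using repByAlgSp_el 𝒵 h𝒵 hp
  refine ⟨V, fun n => BasedFunctor.comp (a n) (elq _), fun n => ?_, fun k _ sk x => ?_⟩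
  · rw [K734.Rep.repByAlgSpWith_precomp_iff (ha n)]
    exact repByAlgSpWith_elq (tors (ULift.{u} (Fin n)) S) (etale_π _ S) (surj_π _ S) (smooth_D _ S) h𝒵.isStack.1 hp
  · obtain ⟨n, v, ⟨e⟩⟩ := exists_point h𝒵.isStack.1 hp hp' k sk x
    obtain ⟨b, -, -, ⟨c⟩⟩ := IsEquivOver.exists_inv (ha n)
    obtain ⟨d⟩ := K735.SpFp.exists_iso_chart (BasedFunctor.comp v b)
    refine ⟨n, K735.SpFp.unchart (BasedFunctor.comp v b), ⟨?_⟩⟩
    exact (whiskerRightIso (whiskerRightIso d.symm (a n)) (elq _) :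
      BasedFunctor.comp (K735.SpFp.chart (K735.SpFp.unchart (BasedFunctor.comp v b)))
        (BasedFunctor.comp (a n) (elq _)) ≅ BasedFunctor.comp (BasedFunctor.comp (BasedFunctor.comp v b) (a n)) (elq _)) ≪≫
      (whiskerRightIso (whiskerLeftIso v c) (elq _) : _ ≅ BasedFunctor.comp (BasedFunctor.comp v (BasedFunctor.id _)) (elq _)) ≪≫ e

end K748.El
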